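import Mathlib.RingTheory.Invariant.Basic
import Mathlib.RingTheory.Ideal.GoingUp
import Mathlib.FieldTheory.IsAlgClosed.Basic
import Mathlib.AlgebraicGeometry.AffineScheme

/-!
# Geometric points of the spectrum of a ring of invariants
-/

universe u v w

open Polynomial

namespace Groth.Agent.ConstQuot

variable {B : Type u} [CommRing B] {A : Type v} [CommRing A] [Algebra B A] {G : Type w} [Group G] [Finite G]
  [MulSemiringAction G A] [Algebra.IsInvariant B A G]

/-- Two points with values in a domain agreeing on invariants differ by an element of the group. -/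
theorem exists_smul_of_agree {Ω : Type*} [CommRing Ω] [IsDomain Ω] (x x' : A →+* Ω)
    (h : ∀ b : B, x (algebraMap B A b) = x' (algebraMap B A b)) : ∃ g : G, ∀ a, x' a = x (g • a) := by
  classical
  cases nonempty_fintype G
  by_contra hne
  simp only [not_exists, not_forall] at hne
  choose a ha using hne
  let F : G → MvPolynomial G A := fun k => ∑ g, MvPolynomial.C (k • a g) * MvPolynomial.X g
  let P : Polynomial (MvPolynomial G A) := ∏ k, (Polynomial.X - Polynomial.C (F k))
  have hF : ∀ (φ : A →+* Ω) k g, MvPolynomial.coeff (Finsupp.single g 1) (MvPolynomial.map φ (F k)) = φ (k • a g) := by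
    intro φ k g
    simp [F, MvPolynomial.coeff_sum, MvPolynomial.coeff_C_mul, MvPolynomial.coeff_X', Finsupp.single_left_inj]
  have hfix : ∀ k : G, P.map (MvPolynomial.map (MulSemiringAction.toRingHom G A k)) = P := fun k => by
    have hk : ∀ g, MvPolynomial.map (MulSemiringAction.toRingHom G A k) (F g) = F (k * g) := fun g => by
      simp [F, mul_smul]
    simp only [P, Polynomial.map_prod, Polynomial.map_sub, Polynomial.map_X, Polynomial.map_C, hk]
    exact Fintype.prod_equiv (Equiv.mulLeft k) _ _ fun g => rfl
  have hP : P.map (MvPolynomial.map x) = P.map (MvPolynomial.map x') := by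
    refine Polynomial.ext fun n => MvPolynomial.ext _ _ fun m => ?_
    rw [Polynomial.coeff_map, Polynomial.coeff_map, MvPolynomial.coeff_map, MvPolynomial.coeff_map]
    obtain ⟨b, hb⟩ := Algebra.IsInvariant.isInvariant (A := B) (G := G) (MvPolynomial.coeff m (P.coeff n))
      fun k => by
        conv_rhs => rw [← hfix k]
        rw [Polynomial.coeff_map, MvPolynomial.coeff_map]
        rfl
    rw [← hb]
    exact h b
  have h0 := congrArg (Polynomial.eval (MvPolynomial.map x' (F 1))) hP
  simp only [P, Polynomial.map_prod, Polynomial.map_sub, Polynomial.map_X, Polynomial.map_C, Polynomial.eval_prod,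
    Polynomial.eval_sub, Polynomial.eval_X, Polynomial.eval_C] at h0
  rw [Finset.prod_eq_zero (s := Finset.univ) (f := fun k => MvPolynomial.map x' (F 1) - MvPolynomial.map x' (F k))
    (Finset.mem_univ 1) (sub_self _)] at h0
  obtain ⟨k, -, hk⟩ := Finset.prod_eq_zero_iff.1 h0
  refine ha k ?_
  have := congrArg (MvPolynomial.coeff (Finsupp.single k 1)) (sub_eq_zero.1 hk)
  rwa [hF, hF, one_smul] at this

/-- A point of an integral extension with values in an algebraically closed field extends. -/
theorem exists_comp_algebraMap_eq [Algebra.IsIntegral B A] [FaithfulSMul B A] {Ω : Type*} [Field Ω] [IsAlgClosed Ω]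
    (y : B →+* Ω) : ∃ x : A →+* Ω, x.comp (algebraMap B A) = y := by
  haveI : (RingHom.ker y).IsPrime := RingHom.ker_isPrime y
  obtain ⟨Q, -, hQ, hcomap⟩ := Ideal.exists_ideal_over_prime_of_isIntegral (RingHom.ker y) (⊥ : Ideal A) (by
    rw [← RingHom.ker_eq_comap_bot, (RingHom.injective_iff_ker_eq_bot _).1 (FaithfulSMul.algebraMap_injective B A)]
    exact bot_le)
  haveI := hQ
  haveI : Q.LiesOver (RingHom.ker y) := ⟨hcomap.symm⟩
  letI : Algebra (B ⧸ RingHom.ker y) Ω := (RingHom.kerLift y).toAlgebra
  haveI : Module.IsTorsionFree (B ⧸ RingHom.ker y) Ω :=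
    Module.isTorsionFree_iff_algebraMap_injective.mpr (RingHom.kerLift_injective y)
  haveI : Module.IsTorsionFree (B ⧸ RingHom.ker y) (A ⧸ Q) :=
    Module.isTorsionFree_iff_algebraMap_injective.mpr (FaithfulSMul.algebraMap_injective _ _)
  haveI : Algebra.IsIntegral (B ⧸ RingHom.ker y) (A ⧸ Q) := inferInstance
  let l : (A ⧸ Q) →ₐ[B ⧸ RingHom.ker y] Ω := IsAlgClosed.lift
  refine ⟨l.toRingHom.comp (Ideal.Quotient.mk Q), RingHom.ext fun b => ?_⟩
  exact (l.commutes (Ideal.Quotient.mk _ b)).trans rfl

end Groth.Agent.ConstQuot
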