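import Groth.Agent.ConstQuot.EtLocal
import Groth.Agent.ConstQuot.GeomPts
import Groth.Agent.AlgSpDec.InvFun
import Groth.Agent.AlgSpDec.LimFppfLocal
import Groth.Agent.AlgStLib.OfSp
import Groth.Agent.AlgSpDec.EtaleQuot
import Groth.Prelude.Def_AlgSp3

/-!
# Quotients of affine schemes by finite groups are categorical among algebraic spaces
-/

set_option backward.isDefEq.respectTransparency false
set_option backward.isDefEq.respectTransparency.types false

universe u

open CategoryTheory Limits AlgebraicGeometry AlgSp Opposite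

noncomputable section

namespace Groth.Agent.ConstQuot

open Groth.Agent.AlgSpLib Groth.Agent.AlgSpDec Groth.Agent.AlgStLib Groth.Agent.AlgSpPts

variable {S : Scheme.{u}}

/-- Representable morphisms from schemes to an algebraic space agree where they agree after a surjective,
universally closed and schematically dominant pullback. -/
theorem eq_of_comp_eq_of_injective {N : Sp S} (hN : IsAlgSpace N) {W V : Over S} [IsAffine W.left] (v : V ⟶ W)
    [UniversallyClosed v.left] [Surjective v.left] (hv : Function.Injective v.left.appTop)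
    (g₁ g₂ : (yon S).obj W ⟶ N) (e : (yon S).map v ≫ g₁ = (yon S).map v ≫ g₂) : g₁ = g₂ := by
  have hd : RepWith @LocallyOfFiniteType (Limits.diag N) :=
    (repWith_diag_iff _ N).2 (diagonal_package hN (IsAlgSpace.yon_obj _) _).2.1
  let gg := prod.lift g₁ g₂
  let E := hd.rep.pullback gg
  let i : E ⟶ W := hd.rep.snd gg
  have sq : IsPullback (hd.rep.fst gg) ((yon S).map i) (Limits.diag N) gg := hd.rep.isPullback gg
  haveI : LocallyOfFiniteType i.left := hd.property _ _ _ sq
  haveI : Mono i.left := by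
    have h1 : Mono ((yon S).map i) := MorphismProperty.of_isPullback
      (P := MorphismProperty.monomorphisms (Sp S)) sq (inferInstanceAs (Mono (Limits.diag N)))
    have : Mono i := (yon S).mono_of_mono_map h1
    exact inferInstanceAs (Mono ((Over.forget S).map i))
  obtain ⟨s, hs⟩ := (yon S).map_surjective (sq.lift ((yon S).map v ≫ g₁) ((yon S).map v)
    (by apply Limits.prod.hom_ext <;> simp [gg, e]))
  have hsv : s ≫ i = v := (yon S).map_injective (by rw [Functor.map_comp, hs, sq.lift_snd])
  have hsl : s.left ≫ i.left = v.left := by rw [← Over.comp_left, hsv]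
  haveI : Surjective s.left := ⟨fun z => by
    obtain ⟨y, hy⟩ := v.left.surjective (i.left z)
    refine ⟨y, i.left.injective ?_⟩
    rw [← Scheme.Hom.comp_apply, hsl, hy]⟩
  haveI : UniversallyClosed (s.left ≫ i.left) := hsl ▸ inferInstance
  haveI : UniversallyClosed i.left := UniversallyClosed.of_comp_surjective s.left i.left
  haveI : IsProper i.left := {}
  haveI : IsClosedImmersion i.left := IsClosedImmersion.iff_isProper_and_mono i.left |>.2 ⟨inferInstance, inferInstance⟩
  haveI : IsIso i.left := IsClosedImmersion.isIso_of_injective_of_isAffine (fun a b h => hv (by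
    rw [← hsl, Scheme.Hom.comp_appTop]
    exact congrArg s.left.appTop h))
  haveI : IsIso i := by
    have : IsIso ((Over.forget S).map i) := ‹IsIso i.left›
    exact isIso_of_reflects_iso _ (Over.forget S)
  have h₁ := congrArg (fun k => k ≫ prod.fst) sq.w
  have h₂ := congrArg (fun k => k ≫ prod.snd) sq.w
  simp only [gg, Category.assoc, prod.lift_fst, prod.lift_snd, Category.comp_id] at h₁ h₂
  exact (cancel_epi ((yon S).map i)).1 (h₁.symm.trans h₂)

theorem uliftYonedaEquiv_yon_map_comp {F : Sp S} {U V : Over S} (t : V ⟶ U) (g : (yon S).obj U ⟶ F) :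
    (J S).uliftYonedaEquiv ((yon S).map t ≫ g) = F.obj.map t.op ((J S).uliftYonedaEquiv g) := by
  rw [← app_eq_uliftYonedaEquiv]
  show g.hom.app (op V) ⟨𝟙 V ≫ t⟩ = _
  rw [Category.id_comp]

/-- Invariant functions after a flat affine base change. -/
theorem invariant_baseChange {G : Type u} [Finite G] {X Y W : Scheme.{u}} [IsAffine X] [IsAffine Y] [IsAffine W]
    (q : X ⟶ Y) (ρ : G → (X ⟶ X)) (hρq : ∀ g, ρ g ≫ q = q) (hinj : Function.Injective q.appTop)
    (hfix : ∀ b, (∀ g, (ρ g).appTop b = b) → ∃ a, q.appTop a = b) (h : W ⟶ Y) [Flat h] :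
    Function.Injective (pullback.snd q h).appTop ∧
    ∀ {Z : Scheme.{u}} [IsAffine Z] (σ : pullback q h ⟶ Z),
      (∀ (g : G) (k : pullback q h ⟶ pullback q h), k ≫ pullback.fst _ _ = pullback.fst _ _ ≫ ρ g →
        k ≫ pullback.snd _ _ = pullback.snd _ _ → k ≫ σ = σ) → ∃ χ, pullback.snd q h ≫ χ = σ := by
  let R₂ : Scheme.{u} := ∐ fun _ : G => X
  let t : R₂ ⟶ X := Sigma.desc fun g => (ρ g)
  let t₀ : R₂ ⟶ X := Sigma.desc fun _ => 𝟙 _
  have w : t ≫ q = t₀ ≫ q := Sigma.hom_ext _ _ fun g => by
    simp only [t, t₀, Sigma.ι_desc_assoc, Category.id_comp]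
    rw [hρq]
  have hex : InvExact t t₀ q := ⟨hinj, fun b hb => hfix b fun g => by
    have h := congrArg (Sigma.ι (fun _ : G => X) g).appTop hb
    have h' : ((Sigma.ι (fun _ : G => X) g) ≫ t).appTop b = ((Sigma.ι (fun _ : G => X) g) ≫ t₀).appTop b := by
      rw [Scheme.Hom.comp_appTop, Scheme.Hom.comp_appTop]
      exact h
    simp only [t, t₀, Sigma.ι_desc] at h'
    exact h'⟩
  let t' : pullback (t ≫ q) h ⟶ pullback q h := pullback.lift (pullback.fst _ _ ≫ t) (pullback.snd _ _)
    (by rw [Category.assoc, pullback.condition])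
  let s' : pullback (t ≫ q) h ⟶ pullback q h := pullback.lift (pullback.fst _ _ ≫ t₀) (pullback.snd _ _)
    (by rw [Category.assoc, ← w, pullback.condition])
  have hexW : InvExact t' s' (pullback.snd q h) := invExact_of_flat hex w h (IsPullback.of_hasPullback _ _)
    (p₂ := pullback.fst (t ≫ q) h) (by rw [pullback.lift_snd]; exact IsPullback.of_hasPullback _ _)
    (pullback.lift_fst _ _ _) (pullback.lift_fst _ _ _) (by rw [pullback.lift_snd, pullback.lift_snd])
  refine ⟨hexW.1, fun {Z} _ σ hσ => hexW.exists_desc σ ?_⟩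
  refine Scheme.Cover.hom_ext ((sigmaOpenCover fun _ : G => X).pullback₁ (pullback.fst (t ≫ q) h)) _ _
    fun g => ?_
  let j := pullback.fst (pullback.fst (t ≫ q) h) (Sigma.ι (fun _ : G => X) g)
  show j ≫ t' ≫ σ = j ≫ s' ≫ σ
  let k : pullback q h ⟶ pullback q h := pullback.lift (pullback.fst _ _ ≫ (ρ g)) (pullback.snd _ _)
    (by rw [Category.assoc, hρq, pullback.condition])
  have hjk : j ≫ t' = j ≫ s' ≫ k := by
    apply pullback.hom_ext <;>
      simp [j, k, t', s', pullback.condition_assoc, t, t₀]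
  rw [reassoc_of% hjk, hσ g k (pullback.lift_fst _ _ _) (pullback.lift_snd _ _ _)]

variable {G : Type u} [Group G] [Finite G] {X Y : Over S}

/-- A finite surjection with finite group action, invariant functions from below and transitive on geometric
fibres is universal for invariant morphisms to algebraic spaces. -/
theorem existsUnique_desc_algSpace [IsAffine S] [IsAffine X.left] [IsAffine Y.left] (q : X ⟶ Y) [IsFinite q.left]
    [Surjective q.left] (ρ : G → (X ⟶ X)) (hρq : ∀ g, ρ g ≫ q = q) (hρmul : ∀ g h, ρ g ≫ ρ h = ρ (g * h))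
    (hρone : ρ 1 = 𝟙 X) (hinj : Function.Injective q.left.appTop)
    (hfix : ∀ b, (∀ g, (ρ g).left.appTop b = b) → ∃ a, q.left.appTop a = b)
    (htrans : ∀ (Ω : Type u) [Field Ω] [IsAlgClosed Ω] (x x' : Spec (CommRingCat.of Ω) ⟶ X.left),
      x ≫ q.left = x' ≫ q.left → ∃ g, x ≫ (ρ g).left = x')
    {N : Sp S} (hN : IsAlgSpace N) (f : (yon S).obj X ⟶ N) (hf : ∀ g, (yon S).map (ρ g) ≫ f = f) :
    ∃! χ : (yon S).obj Y ⟶ N, (yon S).map q ≫ χ = f := by
  classical
  have hbc := fun {W : Scheme.{u}} [IsAffine W] (h : W ⟶ Y.left) [Flat h] =>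
    invariant_baseChange q.left (fun g => (ρ g).left) (fun g => by rw [← Over.comp_left, hρq]) hinj hfix h
  -- uniqueness
  have huniq : ∀ {W : Over S} [IsAffine W.left] (h : W ⟶ Y) [Flat h.left] (g₁ g₂ : (yon S).obj W ⟶ N),
      (∀ {V : Over S} (v : V ⟶ W) (x : V ⟶ X), x ≫ q = v ≫ h → (yon S).map v ≫ g₁ = (yon S).map v ≫ g₂) →
      g₁ = g₂ := by
    intro W _ h _ g₁ g₂ e
    let V : Over S := Over.mk (pullback.snd q.left h.left ≫ W.hom)
    let v : V ⟶ W := Over.homMk (pullback.snd q.left h.left) rfl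
    let x : V ⟶ X := Over.homMk (pullback.fst q.left h.left) (by
      show _ = pullback.snd q.left h.left ≫ W.hom
      rw [← Over.w q, ← Over.w h, pullback.condition_assoc])
    haveI : UniversallyClosed v.left := inferInstanceAs (UniversallyClosed (pullback.snd q.left h.left))
    haveI : Surjective v.left := inferInstanceAs (Surjective (pullback.snd q.left h.left))
    exact eq_of_comp_eq_of_injective hN v (hbc h.left).1 g₁ g₂ (e v x (Over.OverMorphism.ext pullback.condition))
  obtain ⟨U, a, hae, has⟩ := hN.atlas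
  let P := hae.rep.pullback f
  let cP : P ⟶ U := hae.rep.fst' f
  let πP : P ⟶ X := hae.rep.snd f
  have sqP : IsPullback ((yon S).map cP) ((yon S).map πP) a f := hae.rep.isPullback' f
  haveI : Etale πP.left := hae.property _ _ _ sqP
  haveI : Surjective πP.left := has.property _ _ _ sqP
  have hτ : ∀ g, ∃ τ : P ⟶ P, τ ≫ cP = cP ∧ τ ≫ πP = πP ≫ ρ g := fun g => by
    obtain ⟨τ, hτ⟩ := (yon S).map_surjective (sqP.lift ((yon S).map cP) ((yon S).map (πP ≫ ρ g))
      (by rw [Functor.map_comp, Category.assoc, hf, sqP.w]))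
    exact ⟨τ, (yon S).map_injective (by rw [Functor.map_comp, hτ, sqP.lift_fst]),
      (yon S).map_injective (by rw [Functor.map_comp, hτ, sqP.lift_snd])⟩
  choose τ hτc hτπ using hτ
  -- local existence
  have hloc : ∀ x : X.left, ∃ (W : Over S) (_ : IsAffine W.left) (h : W ⟶ Y) (_ : Etale h.left)
      (ψ : (yon S).obj W ⟶ N), (∃ w, h.left w = q.left x) ∧
      ∀ {V : Over S} (v : V ⟶ W) (z : V ⟶ X), z ≫ q = v ≫ h → (yon S).map v ≫ ψ = (yon S).map z ≫ f := by
    intro x
    obtain ⟨p, rfl⟩ := πP.left.surjective x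
    obtain ⟨_, ⟨U₁, hU₁, rfl⟩, hpU, -⟩ :=
      U.left.isBasis_affineOpens.exists_subset_of_mem_open (Set.mem_univ (cP.left p)) isOpen_univ
    let U₀ : U.left.Opens := U₁
    haveI : IsAffine U₀.toScheme := hU₁
    let P₀ : P.left.Opens := cP.left ⁻¹ᵁ U₀
    let π₀ : P₀.toScheme ⟶ X.left := P₀.ι ≫ πP.left
    let c₀ : P₀.toScheme ⟶ U₀.toScheme := cP.left ∣_ U₀
    have hc₀ : c₀ ≫ U₀.ι = P₀.ι ≫ cP.left := morphismRestrict_ι _ _
    have hmono : ∀ {T : Scheme.{u}} (b b' : T ⟶ P₀.toScheme), b ≫ π₀ = b' ≫ π₀ → b ≫ c₀ = b' ≫ c₀ → b = b' := by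
      intro T b b' e₁ e₂
      let T' : Over S := Over.mk (b ≫ P₀.ι ≫ P.hom)
      let B : T' ⟶ P := Over.homMk (b ≫ P₀.ι) (Category.assoc _ _ _)
      let B' : T' ⟶ P := Over.homMk (b' ≫ P₀.ι) (by
        show (b' ≫ P₀.ι) ≫ P.hom = b ≫ P₀.ι ≫ P.hom
        have h1 := e₁ =≫ X.hom
        simp only [π₀, Category.assoc, Over.w πP] at h1
        rw [Category.assoc]
        exact h1.symm)
      have h3 : B = B' := (yon S).map_injective (sqP.hom_ext
        (by
          rw [← Functor.map_comp, ← Functor.map_comp]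
          refine congrArg (yon S).map (Over.OverMorphism.ext ?_)
          show (b ≫ P₀.ι) ≫ cP.left = (b' ≫ P₀.ι) ≫ cP.left
          rw [Category.assoc, Category.assoc, ← hc₀, reassoc_of% e₂])
        (by
          rw [← Functor.map_comp, ← Functor.map_comp]
          refine congrArg (yon S).map (Over.OverMorphism.ext ?_)
          show (b ≫ P₀.ι) ≫ πP.left = (b' ≫ P₀.ι) ≫ πP.left
          rw [Category.assoc, Category.assoc]
          exact e₁))
      exact (cancel_mono P₀.ι).1 (congrArg CommaMorphism.left h3)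
    haveI : IsSeparated π₀ := by
      let m : P₀.toScheme ⟶ pullback (terminal.from X.left) (terminal.from U₀.toScheme) :=
        pullback.lift π₀ c₀ (Subsingleton.elim _ _)
      haveI : Mono m := ⟨fun b b' e => hmono b b' (by simpa [m] using e =≫ pullback.fst _ _)
        (by simpa [m] using e =≫ pullback.snd _ _)⟩
      have e : π₀ = m ≫ pullback.fst _ _ := (pullback.lift_fst _ _ _).symm
      rw [e]
      infer_instance
    have hrng : ∀ g, Set.range (P₀.ι ≫ (τ g).left) ⊆ Set.range P₀.ι := fun g => by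
      rintro _ ⟨⟨z, hz⟩, rfl⟩
      refine ⟨⟨(τ g).left z, ?_⟩, rfl⟩
      show cP.left ((τ g).left z) ∈ U₀
      rw [← Scheme.Hom.comp_apply, ← Over.comp_left, hτc]
      exact hz
    let τ₀ : G → (P₀.toScheme ⟶ P₀.toScheme) := fun g => IsOpenImmersion.lift P₀.ι _ (hrng g)
    have hτ₀ : ∀ g, τ₀ g ≫ P₀.ι = P₀.ι ≫ (τ g).left := fun g => IsOpenImmersion.lift_fac _ _ _
    obtain ⟨W₀, hW₀, h₀, w, hh₀, hw, s, hs, -, hsinv⟩ := exists_etale_invariant_section q.left π₀ c₀ hmono
      (fun g => (ρ g).left) τ₀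
      (fun g => by simp only [π₀, reassoc_of% hτ₀ g, Category.assoc, ← Over.comp_left, hτπ])
      (fun g => by
        rw [← cancel_mono U₀.ι, Category.assoc, hc₀, reassoc_of% hτ₀ g, ← Over.comp_left, hτc])
      (fun g => by rw [← Over.comp_left, hρq]) (fun g h => by rw [← Over.comp_left, hρmul])
      (by rw [hρone, Over.id_left]) htrans ⟨p, hpU⟩
    haveI := hW₀
    haveI := hh₀
    obtain ⟨χ, hχ⟩ := (hbc h₀).2 (s ≫ c₀) (fun g k hk₁ hk₂ => hsinv g k hk₁ hk₂)
    let W : Over S := Over.mk (h₀ ≫ Y.hom)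
    let h : W ⟶ Y := Over.homMk h₀ rfl
    have hs' : s ≫ P₀.ι ≫ πP.left = pullback.fst q.left h₀ := hs
    have hχS : (χ ≫ U₀.ι) ≫ U.hom = h₀ ≫ Y.hom := by
      refine ext_of_isAffine ?_
      ext z
      refine (hbc h₀).1 ?_
      have e : pullback.snd q.left h₀ ≫ (χ ≫ U₀.ι) ≫ U.hom = pullback.snd q.left h₀ ≫ h₀ ≫ Y.hom := by
        rw [← pullback.condition_assoc, Over.w q, ← hs', Category.assoc, reassoc_of% hχ, reassoc_of% hc₀,
          Category.assoc, Category.assoc, Over.w cP, Over.w πP]
      have e' := congrArg (fun k : pullback q.left h₀ ⟶ S => k.appTop z) e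
      simp only [Scheme.Hom.comp_appTop] at e' ⊢
      exact e'
    let χ' : W ⟶ U := Over.homMk (χ ≫ U₀.ι) hχS
    refine ⟨W, hW₀, h, hh₀, (yon S).map χ' ≫ a, ⟨w, ?_⟩, fun {V} v z e => ?_⟩
    · show h₀ w = _
      rw [hw]
      rfl
    · let l : V.left ⟶ pullback q.left h₀ := pullback.lift z.left v.left (congrArg CommaMorphism.left e)
      let zP : V ⟶ P := Over.homMk (l ≫ s ≫ P₀.ι) (by
        rw [Category.assoc, Category.assoc, ← Over.w πP, reassoc_of% hs', pullback.lift_fst_assoc, Over.w z])
      have e₁ : zP ≫ πP = z := Over.OverMorphism.ext (by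
        show (l ≫ s ≫ P₀.ι) ≫ πP.left = z.left
        rw [Category.assoc, Category.assoc, hs', pullback.lift_fst])
      have e₂ : zP ≫ cP = v ≫ χ' := Over.OverMorphism.ext (by
        show (l ≫ s ≫ P₀.ι) ≫ cP.left = v.left ≫ χ ≫ U₀.ι
        rw [Category.assoc, Category.assoc, ← hc₀, ← Category.assoc s, ← hχ, Category.assoc,
          pullback.lift_snd_assoc])
      rw [← Category.assoc, ← Functor.map_comp, ← e₂, ← e₁, Functor.map_comp, Functor.map_comp, Category.assoc,
        Category.assoc, sqP.w]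
  choose W hWa h hh ψ hw hψ using hloc
  haveI : ∀ x, Flat (h x).left := fun x => haveI := hh x; inferInstance
  haveI : ∀ x, LocallyOfFinitePresentation (h x).left := fun x => haveI := hh x; inferInstance
  have hcov : ∀ y : Y.left, ∃ x v, (h x).left v = y := fun y => by
    obtain ⟨x, rfl⟩ := q.left.surjective y
    exact ⟨x, hw x⟩
  obtain ⟨z, hz⟩ := exists_amalgamation_jointly N.property h hcov (fun k => (J S).uliftYonedaEquiv (ψ k))
    (fun k l Z a b hab => by
      haveI := hWa k
      haveI := hWa l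
      let K : Over S := Over.mk (pullback.fst (h k).left (h l).left ≫ (W k).hom)
      let k₁ : K ⟶ W k := Over.homMk (pullback.fst (h k).left (h l).left) rfl
      let k₂ : K ⟶ W l := Over.homMk (pullback.snd (h k).left (h l).left) (by
        show _ = pullback.fst (h k).left (h l).left ≫ (W k).hom
        rw [← Over.w (h k), ← Over.w (h l), pullback.condition_assoc])
      have hk : k₁ ≫ h k = k₂ ≫ h l := Over.OverMorphism.ext pullback.condition
      let m : Z ⟶ K := Over.homMk (pullback.lift a.left b.left (congrArg CommaMorphism.left hab)) (by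
        show pullback.lift _ _ _ ≫ pullback.fst _ _ ≫ _ = _
        rw [pullback.lift_fst_assoc, Over.w a])
      have hm₁ : m ≫ k₁ = a := Over.OverMorphism.ext (pullback.lift_fst _ _ _)
      have hm₂ : m ≫ k₂ = b := Over.OverMorphism.ext (pullback.lift_snd _ _ _)
      haveI : IsAffine K.left := inferInstanceAs (IsAffine (pullback (h k).left (h l).left))
      haveI : Flat (k₁ ≫ h k).left := inferInstanceAs (Flat (pullback.fst (h k).left (h l).left ≫ (h k).left))
      have key : (yon S).map k₁ ≫ ψ k = (yon S).map k₂ ≫ ψ l := huniq (k₁ ≫ h k) _ _ fun {V} v x e => by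
        rw [← Category.assoc, ← Category.assoc, ← Functor.map_comp, ← Functor.map_comp]
        rw [hψ k (v ≫ k₁) x (by rw [e, Category.assoc]), hψ l (v ≫ k₂) x (by rw [e, hk, Category.assoc])]
      rw [← uliftYonedaEquiv_yon_map_comp, ← uliftYonedaEquiv_yon_map_comp, ← hm₁, ← hm₂, Functor.map_comp,
        Functor.map_comp, Category.assoc, Category.assoc, key])
  let χ : (yon S).obj Y ⟶ N := ((J S).uliftYonedaEquiv).symm z
  have hχ : ∀ k, (yon S).map (h k) ≫ χ = ψ k := fun k => ((J S).uliftYonedaEquiv).injective (by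
    rw [uliftYonedaEquiv_yon_map_comp, Equiv.apply_symm_apply]
    exact hz k)
  refine ⟨χ, ?_, fun χ' hχ' => ?_⟩
  · -- check on the cover of `X`
    let V : X.left → Over S := fun k => Over.mk (pullback.fst q.left (h k).left ≫ X.hom)
    let b : ∀ k, V k ⟶ X := fun k => Over.homMk (pullback.fst q.left (h k).left) rfl
    let b' : ∀ k, V k ⟶ W k := fun k => Over.homMk (pullback.snd q.left (h k).left) (by
      show _ = pullback.fst q.left (h k).left ≫ X.hom
      rw [← Over.w q, ← Over.w (h k), pullback.condition_assoc])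
    have hbb : ∀ k, b k ≫ q = b' k ≫ h k := fun k => Over.OverMorphism.ext pullback.condition
    haveI : ∀ k, Flat (b k).left := fun k => inferInstanceAs (Flat (pullback.fst q.left (h k).left))
    haveI : ∀ k, LocallyOfFinitePresentation (b k).left := fun k =>
      inferInstanceAs (LocallyOfFinitePresentation (pullback.fst q.left (h k).left))
    refine ((J S).uliftYonedaEquiv).injective (ext_of_jointly N.property b (fun x => ?_) fun k => ?_)
    · obtain ⟨w', hw'⟩ := hw x
      obtain ⟨v, hv, -⟩ := Scheme.Pullback.exists_preimage_pullback (f := q.left) (g := (h x).left) x w' hw'.symm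
      exact ⟨x, v, hv⟩
    · rw [← uliftYonedaEquiv_yon_map_comp, ← uliftYonedaEquiv_yon_map_comp, ← hψ k (b' k) (b k) (hbb k), ← hχ k,
        ← Category.assoc, ← Category.assoc, ← Functor.map_comp, ← Functor.map_comp, hbb]
  · refine ((J S).uliftYonedaEquiv).injective (ext_of_jointly N.property h hcov fun k => ?_)
    rw [← uliftYonedaEquiv_yon_map_comp, ← uliftYonedaEquiv_yon_map_comp, hχ k]
    haveI := hWa k
    refine congrArg _ (huniq (h k) _ _ fun {V} v x e => ?_)
    rw [hψ k v x e, ← Category.assoc, ← Functor.map_comp, ← e, Functor.map_comp, Category.assoc, hχ']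

end Groth.Agent.ConstQuot

end
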