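import Groth.Agent.ConstQuot.Basic
import Groth.Agent.ConstQuot.CatSp

/-!
# The spectrum of invariants as the quotient of an affine scheme by a finite group
-/

set_option backward.isDefEq.respectTransparency false
set_option backward.isDefEq.respectTransparency.types false

universe u

open CategoryTheory Limits MonoidalCategory CartesianMonoidalCategory AlgebraicGeometry

noncomputable section

namespace Groth.Agent.ConstQuot

variable (R : Type u) [CommRing R] (A : Type u) [CommRing A] [Algebra R A]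
  (G : Type u) [Group G] [Fintype G] [DecidableEq G] [MulSemiringAction G A] [SMulCommClass G R A]

theorem isInvariant_inv : Algebra.IsInvariant ↥(ConstAct.inv R A G) A G := ⟨fun a ha => ⟨⟨a, ha⟩, rfl⟩⟩

theorem isIntegral_inv : Algebra.IsIntegral ↥(ConstAct.inv R A G) A :=
  haveI := isInvariant_inv R A G
  Algebra.IsInvariant.isIntegral ↥(ConstAct.inv R A G) A G

theorem isFinite_q [Algebra.FiniteType R A] : IsFinite (q R A G).left := by
  rw [q_left, IsFinite.SpecMap_iff]
  haveI := isIntegral_inv R A G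
  haveI : Algebra.FiniteType ↥(ConstAct.inv R A G) A := Algebra.FiniteType.of_restrictScalars_finiteType R _ A
  exact RingHom.finite_algebraMap.mpr Algebra.IsIntegral.finite

theorem appTop_q_injective : Function.Injective (q R A G).left.appTop := by
  intro c c' e
  refine (ConcreteCategory.bijective_of_isIso (Scheme.ΓSpecIso (CommRingCat.of (ConstAct.inv R A G))).hom).1 ?_
  refine Subtype.ext ?_
  have hq : ∀ c, (Scheme.ΓSpecIso (CommRingCat.of A)).hom ((q R A G).left.appTop c) =
      ((Scheme.ΓSpecIso (CommRingCat.of (ConstAct.inv R A G))).hom c : A) := fun c =>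
    ConcreteCategory.congr_hom (Scheme.ΓSpecIso_naturality (CommRingCat.ofHom (ConstAct.inv R A G).val.toRingHom)) c
  rw [← hq, ← hq, e]

theorem exists_appTop_q (b) (hb : ∀ g, (ConstAct.act R A G g).left.appTop b = b) :
    ∃ c, (q R A G).left.appTop c = b := by
  let eA := Scheme.ΓSpecIso (CommRingCat.of A)
  let eI := Scheme.ΓSpecIso (CommRingCat.of (ConstAct.inv R A G))
  have hinv : ∀ g : G, g • (eA.hom b : A) = eA.hom b := fun g => by
    have h2 : eA.hom ((ConstAct.act R A G g).left.appTop b) = g • (eA.hom b : A) :=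
      ConcreteCategory.congr_hom
        (Scheme.ΓSpecIso_naturality (CommRingCat.ofHom (MulSemiringAction.toRingHom G A g))) b
    rw [← h2]
    exact congrArg eA.hom (hb g)
  refine ⟨eI.inv ⟨eA.hom b, hinv⟩, (ConcreteCategory.bijective_of_isIso eA.hom).1 ?_⟩
  exact (ConcreteCategory.congr_hom
    (Scheme.ΓSpecIso_naturality (CommRingCat.ofHom (ConstAct.inv R A G).val.toRingHom)) _).trans
    (congrArg Subtype.val (Iso.inv_hom_id_apply eI _))

theorem geom_transitive (Ω : Type u) [Field Ω] (x x' : Spec (CommRingCat.of Ω) ⟶ (ConstAct.X R A).left)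
    (h : x ≫ (q R A G).left = x' ≫ (q R A G).left) : ∃ g, x ≫ (ConstAct.act R A G g).left = x' := by
  obtain ⟨φ, rfl⟩ := Spec.map_surjective x
  obtain ⟨φ', rfl⟩ := Spec.map_surjective x'
  rw [q_left, ← Spec.map_comp, ← Spec.map_comp, Spec.map_inj] at h
  haveI := isInvariant_inv R A G
  obtain ⟨g, hg⟩ := exists_smul_of_agree (B := ↥(ConstAct.inv R A G)) (G := G) φ.hom φ'.hom
    fun b => congrArg (fun k => k.hom b) h
  refine ⟨g, ?_⟩
  rw [ConstAct.act_left, ← Spec.map_comp]
  congr 1
  exact CommRingCat.hom_ext (RingHom.ext fun a => (hg a).symm)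

theorem geom_surjective (Ω : Type u) [Field Ω] [IsAlgClosed Ω]
    (y : Spec (CommRingCat.of Ω) ⟶ (ConstAct.specInv R A G).left) :
    ∃ x : Spec (CommRingCat.of Ω) ⟶ (ConstAct.X R A).left, x ≫ (q R A G).left = y := by
  obtain ⟨ψ, rfl⟩ := Spec.map_surjective y
  haveI := isIntegral_inv R A G
  obtain ⟨φ, hφ⟩ := exists_comp_algebraMap_eq (A := A) ψ.hom
  refine ⟨Spec.map (CommRingCat.ofHom φ), ?_⟩
  rw [q_left, ← Spec.map_comp]
  congr 1
  exact CommRingCat.hom_ext hφ

theorem surjective_q : Surjective (q R A G).left := ⟨fun y => by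
  obtain ⟨Ω, _, _, yb, hyb⟩ := exists_geomPoint y
  obtain ⟨xb, hxb⟩ := geom_surjective R A G Ω yb
  exact ⟨xb (pt Ω), by rw [← Scheme.Hom.comp_apply, hxb, hyb]⟩⟩

/-- `Spec A → Spec A^G` is universal among invariant maps to algebraic spaces. -/
theorem existsUnique_desc [Algebra.FiniteType R A] {N : AlgSp.Sp (Spec (CommRingCat.of R))}
    (hN : AlgSp.IsAlgSpace N) (f : (AlgSp.yon _).obj (ConstAct.X R A) ⟶ N)
    (hf : ∀ g, (AlgSp.yon _).map (ConstAct.act R A G g) ≫ f = f) :
    ∃! χ : (AlgSp.yon _).obj (ConstAct.specInv R A G) ⟶ N, (AlgSp.yon _).map (q R A G) ≫ χ = f :=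
  haveI := isFinite_q R A G
  haveI := surjective_q R A G
  haveI : IsAffine (ConstAct.specInv R A G).left := inferInstanceAs (IsAffine (Spec _))
  haveI : IsAffine (ConstAct.X R A).left := inferInstanceAs (IsAffine (Spec _))
  existsUnique_desc_algSpace (q R A G) (ConstAct.act R A G) (ConstAct.act_quot R A G)
    (fun g h => (ConstAct.act_mul R A G g h).symm) (ConstAct.act_one R A G) (appTop_q_injective R A G)
    (exists_appTop_q R A G) (fun Ω _ _ x x' h => geom_transitive R A G Ω x x' h) hN f hf

theorem constSec_inv_act {T : Over (Spec (CommRingCat.of R))} (x : T ⟶ ConstAct.X R A) (g : G) :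
    lift (x ≫ constSec R A G g⁻¹ ≫ fst (ConstAct.GR R G) (ConstAct.X R A)) x ≫ (ConstAct.gaction R A G).act =
      x ≫ ConstAct.act R A G g := by
  have e : lift (x ≫ constSec R A G g⁻¹ ≫ fst (ConstAct.GR R G) (ConstAct.X R A)) x = x ≫ constSec R A G g⁻¹ := by
    apply CartesianMonoidalCategory.hom_ext <;> simp [constSec_snd]
  rw [e, Category.assoc, constSec_act, _root_.inv_inv]

theorem yon_act_comp {N : AlgSp.Sp (Spec (CommRingCat.of R))} (f : (AlgSp.yon _).obj (ConstAct.X R A) ⟶ N)
    (hf : (AlgSp.yon _).map (ConstAct.gaction R A G).act ≫ f = (AlgSp.yon _).map (snd _ _) ≫ f) (g : G) :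
    (AlgSp.yon _).map (ConstAct.act R A G g) ≫ f = f := by
  have h := congrArg (fun k => (AlgSp.yon _).map (constSec R A G g⁻¹) ≫ k) hf
  replace h : (AlgSp.yon _).map (constSec R A G g⁻¹) ≫ (AlgSp.yon _).map (ConstAct.gaction R A G).act ≫ f =
      (AlgSp.yon _).map (constSec R A G g⁻¹) ≫ (AlgSp.yon _).map (snd _ _) ≫ f := h
  rw [← Category.assoc, ← Category.assoc, ← Functor.map_comp, ← Functor.map_comp, constSec_act, constSec_snd,
    _root_.inv_inv, CategoryTheory.Functor.map_id, Category.id_comp] at h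
  exact h

end Groth.Agent.ConstQuot

end
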