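import Groth.Agent.QuotLib.CatModuli
import Groth.Prelude.Def_StCoarse
import Mathlib.AlgebraicGeometry.AlgClosed.Basic

/-!
# Coarse moduli spaces of quotient stacks
-/

set_option backward.isDefEq.respectTransparency false
set_option backward.isDefEq.respectTransparency.types false

universe u

open CategoryTheory CategoryTheory.Limits MonoidalCategory CartesianMonoidalCategory MonObj GrpObj AlgebraicGeometry AlgSp
  Opposite

noncomputable section

namespace Groth.Agent.ConstQuot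

open Groth.Agent.FibBase Groth.Agent.AlgSpLib Groth.Agent.AlgStLib Groth.Agent.QuotLib

variable {S : Scheme.{u}} {K : Over S} [GrpObj K] [Flat K.hom] [LocallyOfFinitePresentation K.hom] {X Y : Over S}
  {a : AlgGrp.Action K X}

/-- A torsor over a geometric point is trivial. -/
theorem exists_point_torsor {Ω : Type u} [Field Ω] [IsAlgClosed Ω] {t : Spec (CommRingCat.of Ω) ⟶ S}
    (A : AlgSt.QuotObj Scheme.fppfPrecoverage K a) (hA : A.base = Over.mk t) :
    ∃ b : A.base ⟶ A.P, b ≫ A.π = 𝟙 A.base := by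
  obtain ⟨⟨_, _⟩, _⟩ := fppf_π A
  let e : A.base.left ⟶ Spec (CommRingCat.of Ω) := (eqToHom hA).left
  haveI : IsIso e := inferInstanceAs (IsIso ((Over.forget S).map (eqToHom hA)))
  let g : A.P.left ⟶ Spec (CommRingCat.of Ω) := A.π.left ≫ e
  haveI : Nonempty A.P.left := ⟨(g.surjective (IsLocalRing.closedPoint Ω)).choose⟩
  haveI : JacobsonSpace A.P.left := LocallyOfFiniteType.jacobsonSpace g
  obtain ⟨z, -, hz⟩ := nonempty_inter_closedPoints (X := A.P.left) (Z := Set.univ) Set.univ_nonempty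
    isOpen_univ.isLocallyClosed
  obtain ⟨b, hb⟩ := (pointEquivClosedPoint g).symm ⟨z, hz⟩
  have hb' : (e ≫ b) ≫ A.π.left = 𝟙 A.base.left := by
    rw [← cancel_mono e, Category.assoc, Category.assoc, show b ≫ A.π.left ≫ e = 𝟙 _ from hb, Category.comp_id,
      Category.id_comp]
  refine ⟨Over.homMk (e ≫ b) ?_, Over.OverMorphism.ext hb'⟩
  rw [← Over.w A.π, ← Category.assoc, hb']
  exact Category.id_comp _

theorem isCoarseModuli_of_orbits (f : X ⟶ Y)
    (hsurj : ∀ (Ω : Type u) [Field Ω] [IsAlgClosed Ω] (t : Spec (CommRingCat.of Ω) ⟶ S) (y : Over.mk t ⟶ Y),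
      ∃ x : Over.mk t ⟶ X, x ≫ f = y)
    (horb : ∀ (Ω : Type u) [Field Ω] [IsAlgClosed Ω] (t : Spec (CommRingCat.of Ω) ⟶ S) (x x' : Over.mk t ⟶ X),
      x ≫ f = x' ≫ f → ∃ g : Over.mk t ⟶ K, lift g x' ≫ a.act = x)
    (hcat : ∀ (N : Sp S), IsAlgSpace N → ∀ ψ : (yon S).obj X ⟶ N,
      (yon S).map a.act ≫ ψ = (yon S).map (snd K X) ≫ ψ → ∃! χ : (yon S).obj Y ⟶ N, (yon S).map f ≫ χ = ψ)
    (π : AlgSt.QuotSt Scheme.fppfPrecoverage K a ⥤ᵇ AlgSt.ofSch Y) (hπ : restrHom π = (yon S).map f) :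
    AlgSt.IsCoarseModuli π := by
  refine ⟨⟨IsAlgSpace.yon_obj Y, fun N hN φ => ?_⟩, fun Ω _ _ t => ?_⟩
  · have key : ∀ g : (yon S).obj Y ⟶ N,
        Nonempty (BasedFunctor.comp π (AlgSt.ofSpMap g) ≅ φ) ↔ (yon S).map f ≫ g = restrHom φ := fun g => by
      rw [nonempty_iso_iff, restrHom_comp, hπ]
    simp only [key]
    exact hcat N hN _ (restrHom_invariant φ)
  have hfib : ∀ (A : (AlgSt.QuotSt Scheme.fppfPrecoverage K a).p.Fiber (Over.mk t)) (b : A.1.base ⟶ A.1.P),
      b ≫ A.1.π = 𝟙 _ → (AlgSt.fibSec π A).down = eqToHom A.2.symm ≫ b ≫ A.1.φ ≫ f := by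
    intro A b hb
    let h := trivHom A.1 b (b ≫ A.1.φ) rfl
    have h1 : secAt π (triv Scheme.fppfPrecoverage K a (b ≫ A.1.φ)) = ⟨(b ≫ A.1.φ) ≫ f⟩ := by
      rw [← restrHom_app, hπ]
      rfl
    have h2 := secAt_map π h
    have hp : (AlgSt.QuotSt Scheme.fppfPrecoverage K a).p.map h = 𝟙 A.1.base := hb
    rw [hp, h1] at h2
    have h3 : secAt π A.1 = ⟨(b ≫ A.1.φ) ≫ f⟩ := (res_id _ _ rfl _).symm.trans h2
    have h4 : AlgSt.fibSec π A = ((yon S).obj Y).obj.map (eqToHom A.2.symm).op (secAt π A.1) := by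
      rw [secAt, res_res]
      exact res_congr _ (eqToHom_trans _ _).symm _
    rw [h4, h3, ← Category.assoc b]
    rfl
  refine ⟨fun m => ?_, fun A B hAB => ?_⟩
  · obtain ⟨x, hx⟩ := hsurj Ω t m.down
    refine ⟨⟨triv Scheme.fppfPrecoverage K a x, rfl⟩, ULift.ext _ _ ?_⟩
    rw [hfib _ (sec K _) (lift_snd _ _), eqToHom_refl, Category.id_comp, ← Category.assoc]
    exact (congrArg (fun z => z ≫ f) (sec_φ x)).trans hx
  · obtain ⟨b, hb⟩ := exists_point_torsor A.1 A.2
    obtain ⟨b', hb'⟩ := exists_point_torsor B.1 B.2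
    let x : Over.mk t ⟶ X := eqToHom A.2.symm ≫ b ≫ A.1.φ
    let x' : Over.mk t ⟶ X := eqToHom B.2.symm ≫ b' ≫ B.1.φ
    have hxx : x ≫ f = x' ≫ f := by
      have := congrArg ULift.down hAB
      rw [hfib A b hb, hfib B b' hb'] at this
      simpa [x, x', Category.assoc] using this
    obtain ⟨g, hg⟩ := horb Ω t x x' hxx
    obtain ⟨h₁, hh₁, -⟩ := (hom_triv_iff (K := Scheme.fppfPrecoverage) (G := K) (aX := a) (𝟙 (Over.mk t)) x x').2 g
      (by rw [Category.id_comp]; exact hg)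
    let k := trivHom A.1 (eqToHom A.2.symm ≫ b) x (Category.assoc _ _ _)
    let k' := trivHom B.1 (eqToHom B.2.symm ≫ b') x' (Category.assoc _ _ _)
    have hk : k.base = eqToHom A.2.symm := by
      show (eqToHom A.2.symm ≫ b) ≫ A.1.π = _
      rw [Category.assoc, hb]
      exact Category.comp_id _
    have hk' : k'.base = eqToHom B.2.symm := by
      show (eqToHom B.2.symm ≫ b') ≫ B.1.π = _
      rw [Category.assoc, hb']
      exact Category.comp_id _
    haveI : IsIso k.base := hk ▸ inferInstance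
    haveI : IsIso h₁.base := by
      rw [hh₁]
      exact IsIso.id _
    haveI : IsIso k'.base := hk' ▸ inferInstance
    let iA : A.1 ≅ triv Scheme.fppfPrecoverage K a x := homLiftIso k (𝟙 A.1) (asIso k.base).symm (IsIso.inv_hom_id _)
    let iM : triv Scheme.fppfPrecoverage K a x ≅ triv Scheme.fppfPrecoverage K a x' :=
      homLiftIso (𝟙 _) h₁ (asIso h₁.base) (Category.comp_id _)
    let iB : triv Scheme.fppfPrecoverage K a x' ≅ B.1 := homLiftIso (𝟙 _) k' (asIso k'.base) (Category.comp_id _)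
    let i := iA ≪≫ iM ≪≫ iB
    have hi : (AlgSt.QuotSt Scheme.fppfPrecoverage K a).p.map i.hom = eqToHom (A.2.trans B.2.symm) := by
      show inv k.base ≫ h₁.base ≫ k'.base = _
      rw [IsIso.inv_comp_eq, hh₁, hk, hk', eqToHom_trans]
      exact Category.id_comp _
    haveI : (AlgSt.QuotSt Scheme.fppfPrecoverage K a).p.IsHomLift (𝟙 (Over.mk t)) i.hom :=
      IsHomLift.of_fac _ _ _ A.2 B.2 (by rw [hi]; simp)
    haveI : (AlgSt.QuotSt Scheme.fppfPrecoverage K a).p.IsHomLift (𝟙 (Over.mk t)) i.inv :=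
      inferInstance
    exact ⟨⟨⟨i.hom, inferInstance⟩, ⟨i.inv, inferInstance⟩, Functor.Fiber.hom_ext i.hom_inv_id,
      Functor.Fiber.hom_ext i.inv_hom_id⟩⟩

end Groth.Agent.ConstQuot

end
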