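import Groth.Agent.AlgSpDec.InvFun
import Mathlib.AlgebraicGeometry.AffineSpace

/-!
# Invariant functions after a flat base change to an arbitrary scheme
-/

set_option backward.isDefEq.respectTransparency false
set_option backward.isDefEq.respectTransparency.types false

universe u

open CategoryTheory Limits Opposite AlgebraicGeometry Polynomial

noncomputable section

namespace Groth.Agent.ConstQuot

open Groth.Agent.AlgSpDec

section Functions

/-- The affine line over the integers. -/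
abbrev line : Scheme.{u} := Spec (CommRingCat.of (ULift.{u} ℤ[X]))

/-- The ring map sending the variable to a given element. -/
def evalAt {A : CommRingCat.{u}} (r : A) : CommRingCat.of (ULift.{u} ℤ[X]) ⟶ A :=
  CommRingCat.ofHom ((eval₂RingHom (Int.castRingHom A) r).comp ULift.ringEquiv.toRingHom)

theorem evalAt_ext {A : CommRingCat.{u}} {f g : CommRingCat.of (ULift.{u} ℤ[X]) ⟶ A}
    (h : f.hom ⟨Polynomial.X⟩ = g.hom ⟨Polynomial.X⟩) : f = g := by
  apply CommRingCat.hom_ext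
  have e : f.hom.comp (ULift.ringEquiv.symm.toRingHom) = g.hom.comp (ULift.ringEquiv.symm.toRingHom) :=
    Polynomial.ringHom_ext' (RingHom.ext_int _ _) h
  exact RingHom.ext fun a => RingHom.congr_fun e a.down

/-- A function as a morphism to the line. -/
def toLine {Y : Scheme.{u}} (r : Γ(Y, ⊤)) : Y ⟶ line :=
  (ΓSpec.adjunction.homEquiv Y (op (CommRingCat.of (ULift.{u} ℤ[X])))) (evalAt r).op

/-- The function given by a morphism to the line. -/
def ofLine {Y : Scheme.{u}} (g : Y ⟶ line) : Γ(Y, ⊤) :=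
  ((Scheme.ΓSpecIso (CommRingCat.of (ULift.{u} ℤ[X]))).inv ≫ g.appTop).hom ⟨Polynomial.X⟩

theorem ofLine_comp {Y Y' : Scheme.{u}} (h : Y' ⟶ Y) (g : Y ⟶ line) : ofLine (h ≫ g) = h.appTop (ofLine g) := by
  simp only [ofLine, Scheme.Hom.comp_appTop]
  rfl

theorem ofLine_injective {Y : Scheme.{u}} {g g' : Y ⟶ line} (h : ofLine g = ofLine g') : g = g' := by
  refine ext_of_isAffine ?_
  rw [← cancel_epi (Scheme.ΓSpecIso (CommRingCat.of (ULift.{u} ℤ[X]))).inv]
  exact evalAt_ext h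

theorem ofLine_toLine {Y : Scheme.{u}} (r : Γ(Y, ⊤)) : ofLine (toLine r) = r := by
  have e : toLine r = Y.toSpecΓ ≫ Spec.map (evalAt r) := rfl
  rw [e, ofLine, Scheme.Hom.comp_appTop, Scheme.toSpecΓ_appTop]
  have h := ConcreteCategory.congr_hom (Scheme.ΓSpecIso_inv_naturality (evalAt r)) ⟨Polynomial.X⟩
  simp only [CommRingCat.hom_comp, RingHom.comp_apply] at h ⊢
  erw [← h]
  erw [Iso.inv_hom_id_apply]
  exact Polynomial.eval₂_X _ _

end Functions

variable {R₂ R Y R₂' R' Y' : Scheme.{u}} [IsAffine Y] [IsAffine R] [IsAffine R₂]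
  {t s : R₂ ⟶ R} {π : R ⟶ Y}

theorem exists_local (hex : InvExact t s π) (w : t ≫ π = s ≫ π) (h : Y' ⟶ Y) [Flat h] {π' : R' ⟶ Y'} {pR : R' ⟶ R}
    {t' s' : R₂' ⟶ R'} {p₂ : R₂' ⟶ R₂} (H : IsPullback pR π' π h) (H₂ : IsPullback p₂ (t' ≫ π') (t ≫ π) h)
    (ht : t' ≫ pR = p₂ ≫ t) (hs : s' ≫ pR = p₂ ≫ s) (w' : t' ≫ π' = s' ≫ π')
    {U : Scheme.{u}} [IsAffine U] (j : U ⟶ Y') [IsOpenImmersion j] :
    InvExact (pullback.lift (pullback.fst (t' ≫ π') j ≫ t') (pullback.snd (t' ≫ π') j)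
        (by rw [Category.assoc, pullback.condition]) : pullback (t' ≫ π') j ⟶ pullback π' j)
      (pullback.lift (pullback.fst (t' ≫ π') j ≫ s') (pullback.snd (t' ≫ π') j)
        (by rw [Category.assoc, ← w', pullback.condition]))
      (pullback.snd π' j) := by
  refine invExact_of_flat hex w (j ≫ h) ((IsPullback.of_hasPullback π' j).paste_horiz H)
    (p₂ := pullback.fst (t' ≫ π') j ≫ p₂) ?_ ?_ ?_ ?_
  · rw [pullback.lift_snd]
    exact (IsPullback.of_hasPullback _ j).paste_horiz H₂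
  · rw [pullback.lift_fst_assoc, Category.assoc, Category.assoc, ht]
  · rw [pullback.lift_fst_assoc, Category.assoc, Category.assoc, hs]
  · rw [pullback.lift_snd, pullback.lift_snd]

/-- Morphisms from an arbitrary flat base change of `Y` to an affine scheme are detected upstairs. -/
theorem hom_ext_flat (hex : InvExact t s π) (w : t ≫ π = s ≫ π) (h : Y' ⟶ Y) [Flat h] {π' : R' ⟶ Y'} {pR : R' ⟶ R}
    {t' s' : R₂' ⟶ R'} {p₂ : R₂' ⟶ R₂} (H : IsPullback pR π' π h) (H₂ : IsPullback p₂ (t' ≫ π') (t ≫ π) h)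
    (ht : t' ≫ pR = p₂ ≫ t) (hs : s' ≫ pR = p₂ ≫ s) (w' : t' ≫ π' = s' ≫ π')
    {Z : Scheme.{u}} [IsAffine Z] {g g' : Y' ⟶ Z} (e : π' ≫ g = π' ≫ g') : g = g' := by
  refine Y'.affineCover.hom_ext _ _ fun i => ?_
  refine (exists_local hex w h H H₂ ht hs w' (Y'.affineCover.f i)).hom_ext ?_
  rw [← pullback.condition_assoc, ← pullback.condition_assoc, e]

/-- Invariant morphisms to an affine scheme descend after an arbitrary flat base change of `Y`. -/
theorem exists_desc_flat (hex : InvExact t s π) (w : t ≫ π = s ≫ π) (h : Y' ⟶ Y) [Flat h] {π' : R' ⟶ Y'} {pR : R' ⟶ R}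
    {t' s' : R₂' ⟶ R'} {p₂ : R₂' ⟶ R₂} (H : IsPullback pR π' π h) (H₂ : IsPullback p₂ (t' ≫ π') (t ≫ π) h)
    (ht : t' ≫ pR = p₂ ≫ t) (hs : s' ≫ pR = p₂ ≫ s) (w' : t' ≫ π' = s' ≫ π')
    {Z : Scheme.{u}} [IsAffine Z] (f : R' ⟶ Z) (hf : t' ≫ f = s' ≫ f) : ∃ g : Y' ⟶ Z, π' ≫ g = f := by
  let 𝒰 := Y'.affineCover
  have hg : ∀ i, ∃ g : 𝒰.X i ⟶ Z, pullback.snd π' (𝒰.f i) ≫ g = pullback.fst π' (𝒰.f i) ≫ f := fun i =>
    (exists_local hex w h H H₂ ht hs w' (𝒰.f i)).exists_desc _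
      (by rw [pullback.lift_fst_assoc, pullback.lift_fst_assoc, Category.assoc, Category.assoc, hf])
  choose g hg using hg
  refine ⟨𝒰.glueMorphisms g fun i j => ?_, Scheme.Cover.hom_ext (𝒰.pullback₁ π') _ _ fun i => ?_⟩
  · let V := pullback (𝒰.f i) (𝒰.f j)
    let q : V ⟶ Y' := pullback.fst (𝒰.f i) (𝒰.f j) ≫ 𝒰.f i
    haveI : IsOpenImmersion q := inferInstance
    -- compare on the overlap
    refine hom_ext_flat hex w (q ≫ h) ((IsPullback.of_hasPullback π' q).paste_horiz H)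
      (t' := pullback.lift (pullback.fst (t' ≫ π') q ≫ t') (pullback.snd (t' ≫ π') q)
        (by rw [Category.assoc, pullback.condition]))
      (s' := pullback.lift (pullback.fst (t' ≫ π') q ≫ s') (pullback.snd (t' ≫ π') q)
        (by rw [Category.assoc, ← w', pullback.condition]))
      (p₂ := pullback.fst (t' ≫ π') q ≫ p₂) ?_ ?_ ?_ ?_ ?_
    · rw [pullback.lift_snd]
      exact (IsPullback.of_hasPullback _ q).paste_horiz H₂
    · rw [pullback.lift_fst_assoc, Category.assoc, Category.assoc, ht]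
    · rw [pullback.lift_fst_assoc, Category.assoc, Category.assoc, hs]
    · rw [pullback.lift_snd, pullback.lift_snd]
    · let ai : pullback π' q ⟶ pullback π' (𝒰.f i) :=
        pullback.lift (pullback.fst π' q) (pullback.snd π' q ≫ pullback.fst _ _)
          (by rw [Category.assoc]; exact pullback.condition)
      let aj : pullback π' q ⟶ pullback π' (𝒰.f j) :=
        pullback.lift (pullback.fst π' q) (pullback.snd π' q ≫ pullback.snd _ _)
          (by rw [Category.assoc, ← pullback.condition]; exact pullback.condition)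
      have ei : pullback.snd π' q ≫ pullback.fst (𝒰.f i) (𝒰.f j) ≫ g i = pullback.fst π' q ≫ f := by
        have := congrArg (ai ≫ ·) (hg i)
        simpa [ai] using this
      have ej : pullback.snd π' q ≫ pullback.snd (𝒰.f i) (𝒰.f j) ≫ g j = pullback.fst π' q ≫ f := by
        have := congrArg (aj ≫ ·) (hg j)
        simpa [aj] using this
      rw [ei, ej]
  · show pullback.fst π' (𝒰.f i) ≫ π' ≫ 𝒰.glueMorphisms g _ = pullback.fst π' (𝒰.f i) ≫ f
    rw [pullback.condition_assoc, Scheme.Cover.ι_glueMorphisms, hg]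

/-- Invariant functions after a flat base change. -/
theorem invExact_flat (hex : InvExact t s π) (w : t ≫ π = s ≫ π) (h : Y' ⟶ Y) [Flat h] {π' : R' ⟶ Y'} {pR : R' ⟶ R}
    {t' s' : R₂' ⟶ R'} {p₂ : R₂' ⟶ R₂} (H : IsPullback pR π' π h) (H₂ : IsPullback p₂ (t' ≫ π') (t ≫ π) h)
    (ht : t' ≫ pR = p₂ ≫ t) (hs : s' ≫ pR = p₂ ≫ s) (w' : t' ≫ π' = s' ≫ π') : InvExact t' s' π' := by
  refine ⟨fun a a' e => ?_, fun b hb => ?_⟩
  · rw [← ofLine_toLine a, ← ofLine_toLine a']
    congr 1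
    refine hom_ext_flat hex w h H H₂ ht hs w' (ofLine_injective ?_)
    rw [ofLine_comp, ofLine_comp, ofLine_toLine, ofLine_toLine]
    exact e
  · obtain ⟨g, hg⟩ := exists_desc_flat hex w h H H₂ ht hs w' (toLine b) (ofLine_injective (by
      rw [ofLine_comp, ofLine_comp, ofLine_toLine]
      exact hb))
    refine ⟨ofLine g, ?_⟩
    rw [← ofLine_toLine b, ← hg, ofLine_comp]

end Groth.Agent.ConstQuot

end
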