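import Groth.Agent.ConstQuot.CatSp
import Groth.Agent.ConstQuot.InvFlat
import Groth.Agent.ConstQuot.CoarseModuli
import Groth.Agent.FibBase.FpMaps

/-!
# Coarse moduli spaces after flat base change of a finite group quotient
-/

set_option backward.isDefEq.respectTransparency false
set_option backward.isDefEq.respectTransparency.types false

universe u

open CategoryTheory CategoryTheory.Functor CategoryTheory.Limits MonoidalCategory CartesianMonoidalCategory MonObj GrpObj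
  AlgebraicGeometry AlgSp Opposite

noncomputable section

namespace Groth.Agent.ConstQuot

open Groth.Agent.FibBase Groth.Agent.AlgSpLib Groth.Agent.AlgStLib Groth.Agent.QuotLib

/-- The compatibility of a pair of morphisms in a fibre product over a category with faithful structure functor. -/
theorem fp_w {C : Type*} [Category C] {𝒳 𝒴 𝒮 : BasedCategory C} [𝒮.p.Faithful] {F : 𝒳 ⥤ᵇ 𝒮} {G : 𝒴 ⥤ᵇ 𝒮}
    {x y : (FibCat.fp F G).obj} (a : x.obj.fst ⟶ y.obj.fst) (b : x.obj.snd ⟶ y.obj.snd)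
    (h : 𝒴.p.map b = eqToHom (snd_proj x) ≫ 𝒳.p.map a ≫ eqToHom (snd_proj y).symm) :
    F.map a ≫ y.obj.iso.hom = x.obj.iso.hom ≫ G.map b := by
  refine 𝒮.p.map_injective ?_
  have hx : 𝒮.p.IsHomLift (𝟙 (𝒳.p.obj x.obj.fst)) x.obj.iso.hom := x.property
  have hy : 𝒮.p.IsHomLift (𝟙 (𝒳.p.obj y.obj.fst)) y.obj.iso.hom := y.property
  have e₁ : 𝒮.p.map (F.map a) = eqToHom (F.w_obj _) ≫ 𝒳.p.map a ≫ eqToHom (F.w_obj _).symm :=
    IsHomLift.fac' 𝒮.p (𝒳.p.map a) (F.map a)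
  have e₂ : 𝒮.p.map (G.map b) = eqToHom (G.w_obj _) ≫ 𝒴.p.map b ≫ eqToHom (G.w_obj _).symm :=
    IsHomLift.fac' 𝒮.p (𝒴.p.map b) (G.map b)
  rw [Functor.map_comp, Functor.map_comp, e₁, e₂, map_eq_of_isHomLift_id hx, map_eq_of_isHomLift_id hy, h]
  simp

theorem eqToHom_conj_id {C : Type*} [Category C] {a b : C} (p : a = b) (q : b = a) :
    eqToHom p ≫ 𝟙 b ≫ eqToHom q = 𝟙 a := by
  subst p
  simp

theorem eqToHom_trans3 {C : Type*} [Category C] {a b c d : C} (p : a = b) (q : b = c) (r : c = d) :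
    eqToHom p ≫ eqToHom q ≫ eqToHom r = eqToHom ((p.trans q).trans r) := by
  simp

theorem fibSec_eq_secAt {S : Scheme.{u}} {𝒳 : BasedCategory (Over S)} {M : Sp S} (π : 𝒳 ⥤ᵇ AlgSt.ofSp M)
    {T : Over S} (x : 𝒳.p.Fiber T) :
    AlgSt.fibSec π x = M.obj.map (eqToHom x.2.symm).op (secAt π x.1) :=
  ((res_res M.obj _ _ _).trans (res_congr M.obj (eqToHom_trans _ _) _)).symm

variable {S : Scheme.{u}} [IsAffine S] {G : Type u} [Group G] [Finite G] {X I Y' : Over S}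
  {K : Over S} [GrpObj K] [Flat K.hom] [LocallyOfFinitePresentation K.hom] {a : AlgGrp.Action K X}

theorem isCoarseModuli_fpFst [IsAffine X.left] [IsAffine I.left] [IsAffine Y'.left] (q : X ⟶ I) [IsFinite q.left]
    [Surjective q.left] (ρ : G → (X ⟶ X)) (hρq : ∀ g, ρ g ≫ q = q) (hρmul : ∀ g h, ρ g ≫ ρ h = ρ (g * h))
    (hρone : ρ 1 = 𝟙 X) (hinj : Function.Injective q.left.appTop)
    (hfix : ∀ b, (∀ g, (ρ g).left.appTop b = b) → ∃ c, q.left.appTop c = b)
    (htrans : ∀ (Ω : Type u) [Field Ω] [IsAlgClosed Ω] (x x' : Spec (CommRingCat.of Ω) ⟶ X.left),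
      x ≫ q.left = x' ≫ q.left → ∃ g, x ≫ (ρ g).left = x')
    (hconst : ∀ (g : G) {T : Over S} (x : T ⟶ X), ∃ k : T ⟶ K, lift k x ≫ a.act = x ≫ ρ g)
    (π : AlgSt.QuotSt Scheme.fppfPrecoverage K a ⥤ᵇ AlgSt.ofSch I) (hπ : restrHom π = (yon S).map q)
    (hbij : AlgSt.GeomPtBij π) (g : Y' ⟶ I) [Flat g.left] :
    AlgSt.IsCoarseModuli (FibCat.fpFst (AlgSt.ofSpMap ((yon S).map g)) π) := by
  haveI := faithful_forget (((yon S).obj I).obj)
  haveI hfaith : (AlgSt.ofSch I).p.Faithful := faithful_forget (((yon S).obj I).obj)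
  -- the base change of the quotient map
  let X' : Over S := Over.mk (pullback.fst q.left g.left ≫ X.hom)
  let pX : X' ⟶ X := Over.homMk (pullback.fst q.left g.left) rfl
  let pY : X' ⟶ Y' := Over.homMk (pullback.snd q.left g.left) (by
    show _ = pullback.fst q.left g.left ≫ X.hom
    rw [← Over.w q, ← Over.w g, pullback.condition_assoc])
  have hsq : pX ≫ q = pY ≫ g := Over.OverMorphism.ext pullback.condition
  haveI : IsAffine X'.left := inferInstanceAs (IsAffine (pullback q.left g.left))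
  haveI : IsFinite pY.left := inferInstanceAs (IsFinite (pullback.snd q.left g.left))
  haveI : Surjective pY.left := inferInstanceAs (Surjective (pullback.snd q.left g.left))
  let ρ' : G → (X' ⟶ X') := fun σ => Over.homMk
    (pullback.lift (pullback.fst q.left g.left ≫ (ρ σ).left) (pullback.snd q.left g.left)
      (by rw [Category.assoc, ← Over.comp_left, hρq, pullback.condition]))
    (by
      show _ ≫ pullback.fst q.left g.left ≫ X.hom = pullback.fst q.left g.left ≫ X.hom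
      rw [pullback.lift_fst_assoc, Category.assoc, Over.w (ρ σ)])
  have hρX : ∀ σ, ρ' σ ≫ pX = pX ≫ ρ σ := fun σ => Over.OverMorphism.ext (pullback.lift_fst _ _ _)
  have hρY : ∀ σ, ρ' σ ≫ pY = pY := fun σ => Over.OverMorphism.ext (pullback.lift_snd _ _ _)
  have hext : ∀ {T : Over S} (b b' : T ⟶ X'), b ≫ pX = b' ≫ pX → b ≫ pY = b' ≫ pY → b = b' := fun b b' h₁ h₂ =>
    Over.OverMorphism.ext (pullback.hom_ext (congrArg CommaMorphism.left h₁) (congrArg CommaMorphism.left h₂))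
  have hlift : ∀ {T : Over S} (x : T ⟶ X) (y : T ⟶ Y'), x ≫ q = y ≫ g → ∃ b : T ⟶ X', b ≫ pX = x ∧ b ≫ pY = y :=
    fun {T} x y h => ⟨Over.homMk (pullback.lift x.left y.left (congrArg CommaMorphism.left h)) (by
      show _ ≫ pullback.fst q.left g.left ≫ X.hom = _
      rw [pullback.lift_fst_assoc, Over.w x]), Over.OverMorphism.ext (pullback.lift_fst _ _ _),
      Over.OverMorphism.ext (pullback.lift_snd _ _ _)⟩
  have hbc := invariant_baseChange q.left (fun σ => (ρ σ).left) (fun σ => by rw [← Over.comp_left, hρq]) hinj hfix g.left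
  have hfix' : ∀ b, (∀ σ, (ρ' σ).left.appTop b = b) → ∃ c, pY.left.appTop c = b := by
    intro b hb
    let t : (∐ fun _ : G => X.left) ⟶ X.left := Sigma.desc fun σ => (ρ σ).left
    let t₀ : (∐ fun _ : G => X.left) ⟶ X.left := Sigma.desc fun _ => 𝟙 _
    obtain ⟨χ, hχ⟩ := hbc.2 (toLine b) (fun σ k hk₁ hk₂ => by
      have hk : k = (ρ' σ).left := pullback.hom_ext
        (hk₁.trans (pullback.lift_fst _ _ _).symm) (hk₂.trans (pullback.lift_snd _ _ _).symm)
      refine ofLine_injective ?_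
      rw [ofLine_comp, ofLine_toLine, hk]
      exact hb σ)
    refine ⟨ofLine χ, ?_⟩
    rw [← ofLine_comp]
    exact (congrArg ofLine hχ).trans (ofLine_toLine b)
  have htrans' : ∀ (Ω : Type u) [Field Ω] [IsAlgClosed Ω] (x x' : Spec (CommRingCat.of Ω) ⟶ X'.left),
      x ≫ pY.left = x' ≫ pY.left → ∃ σ, x ≫ (ρ' σ).left = x' := fun Ω _ _ x x' e => by
    obtain ⟨σ, hσ⟩ := htrans Ω (x ≫ pullback.fst q.left g.left) (x' ≫ pullback.fst q.left g.left) (by
      rw [Category.assoc, Category.assoc, pullback.condition]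
      rw [← Category.assoc, ← Category.assoc]
      exact congrArg (· ≫ g.left) e)
    refine ⟨σ, pullback.hom_ext ?_ ?_⟩
    · simpa [ρ'] using hσ
    · simpa [ρ', pY] using e
  -- the functor from the pullback into the fibre product
  let F := AlgSt.ofSpMap ((yon S).map g)
  let A₁ := AlgSt.ofSpMap ((yon S).map pY)
  let A₂ := BasedFunctor.comp (AlgSt.ofSpMap ((yon S).map pX))
    (AlgSt.quotMap Scheme.fppfPrecoverage K a)
  have he : spHom (BasedFunctor.comp A₁ F) = spHom (BasedFunctor.comp A₂ π) := by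
    show spHom (BasedFunctor.comp A₁ F) = spHom (BasedFunctor.comp (AlgSt.ofSpMap ((yon S).map pX))
      (BasedFunctor.comp (AlgSt.quotMap Scheme.fppfPrecoverage K a) π))
    rw [spHom_comp, spHom_comp, spHom_ofSpMap, spHom_ofSpMap, spHom_ofSpMap]
    show _ = (yon S).map pX ≫ restrHom π
    rw [hπ, ← Functor.map_comp, ← Functor.map_comp, hsq]
  let Ψ : AlgSt.ofSch X' ⥤ᵇ FibCat.fp F π := FibCat.fpLift A₁ A₂
    (isoOfSpMap _ ≪≫ eqToIso (congrArg (fun m => AlgSt.ofSpMap m) he) ≪≫ (isoOfSpMap _).symm)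
  let pt' : ∀ {T : Over S}, (T ⟶ X') → (FibCat.fp F π).obj := fun {T} x => Ψ.obj ⟨T, ⟨x⟩⟩
  have hsh : ∀ (A : AlgSt.QuotObj Scheme.fppfPrecoverage K a),
      A.π ≫ (secAt π A).down = A.φ ≫ q := fun A => by
    have h2 := secAt_map π (trivHom A (𝟙 A.P) A.φ (Category.id_comp _))
    have hp : (AlgSt.QuotSt Scheme.fppfPrecoverage K a).p.map (trivHom A (𝟙 A.P) A.φ (Category.id_comp _)) = A.π :=
      Category.id_comp _
    rw [hp, ← restrHom_app, hπ] at h2
    exact congrArg ULift.down h2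
  have hiso : ∀ ξ : (FibCat.fp F π).obj, ξ.obj.fst.sec.down ≫ g =
      eqToHom (snd_proj ξ).symm ≫ (secAt π ξ.obj.snd).down := fun ξ => by
    have h1 : (AlgSt.ofSch I).p.IsHomLift (𝟙 ξ.obj.fst.base) ξ.obj.iso.hom := ξ.property
    have h2 : ξ.obj.iso.hom.hom = _ := map_eq_of_isHomLift_id h1
    have h3 := congrArg ULift.down ξ.obj.iso.hom.map_sec
    rw [h2] at h3
    refine h3.symm.trans ?_
    exact congrArg ULift.down ((res_congr (((yon S).obj I).obj)
      (eqToHom_trans (snd_proj ξ).symm (π.w_obj ξ.obj.snd).symm).symm (π.obj ξ.obj.snd).sec).trans (res_res _ _ _ _).symm)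
  refine ⟨⟨IsAlgSpace.yon_obj Y', fun N hN φ => ?_⟩, fun Ω _ _ t => ?_⟩
  · let f' : (yon S).obj X' ⟶ N := spHom (BasedFunctor.comp Ψ φ)
    have hf' : ∀ {T : Over S} (x : T ⟶ X'), secAt φ (pt' x) = f'.hom.app (op T) ⟨x⟩ := fun x => rfl
    have hinv : ∀ σ, (yon S).map (ρ' σ) ≫ f' = f' := fun σ => by
      refine ((J S).uliftYonedaEquiv).injective ?_
      rw [uliftYonedaEquiv_yon_map_comp, ← app_eq_uliftYonedaEquiv]
      refine Eq.trans ?_ ((app_eq_uliftYonedaEquiv f' (𝟙 X')).trans (res_id N.obj _ rfl _))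
      rw [← hf', ← hf']
      obtain ⟨k, hk⟩ := hconst σ pX
      obtain ⟨h, hb, -⟩ := (hom_triv_iff (K := Scheme.fppfPrecoverage) (G := K) (aX := a) (𝟙 X')
        (ρ' σ ≫ pX) (𝟙 X' ≫ pX)).2 k (by rw [Category.id_comp, Category.id_comp, hk, hρX])
      let a₁ : (pt' (ρ' σ)).obj.fst ⟶ (pt' (𝟙 X')).obj.fst := ⟨𝟙 X', ULift.ext _ _ (by
        show 𝟙 X' ≫ 𝟙 X' ≫ pY = ρ' σ ≫ pY
        rw [hρY, Category.id_comp, Category.id_comp])⟩
      have hb' : (AlgSt.QuotSt Scheme.fppfPrecoverage K a).p.map h = 𝟙 X' := hb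
      let m : pt' (ρ' σ) ⟶ pt' (𝟙 X') := ObjectProperty.homMk ⟨a₁, h, fp_w a₁ h (by
        show (AlgSt.QuotSt Scheme.fppfPrecoverage K a).p.map h = eqToHom _ ≫ 𝟙 X' ≫ eqToHom _
        exact hb'.trans (eqToHom_conj_id _ _).symm)⟩
      have hm : (FibCat.fp F π).p.map m = 𝟙 X' := rfl
      have := secAt_map φ m
      rw [hm] at this
      exact this.symm.trans (res_id N.obj _ rfl _)
    obtain ⟨χ, hχ, huniq⟩ := existsUnique_desc_algSpace pY ρ' hρY
      (fun σ τ => hext _ _ (by rw [Category.assoc, hρX, ← Category.assoc, hρX, Category.assoc, hρmul, hρX])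
        (by rw [Category.assoc, hρY, hρY, hρY]))
      (hext _ _ (by rw [hρX, hρone, Category.comp_id, Category.id_comp]) (by rw [hρY, Category.id_comp]))
      hbc.1 hfix' htrans' hN f' hinv
    have hsec : ∀ (χ' : (yon S).obj Y' ⟶ N) {T : Over S} (x : T ⟶ X'),
        secAt (BasedFunctor.comp (FibCat.fpFst F π) (AlgSt.ofSpMap χ')) (pt' x) =
          ((yon S).map pY ≫ χ').hom.app (op T) ⟨x⟩ := fun χ' T x => by
      refine (secAt_comp_ofPshMap _ χ'.hom _).trans ?_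
      show χ'.hom.app (op T) _ = χ'.hom.app (op T) ⟨x ≫ pY⟩
      congr 1
    refine ⟨χ, ⟨pshIso _ _ fun ξ => ?_⟩, fun χ' ⟨e⟩ => huniq χ' ?_⟩
    · let A := ξ.obj.snd
      let π₁ : A.P ⟶ ξ.obj.fst.base := A.π ≫ eqToHom (snd_proj ξ)
      have hπ₁ : fppf π₁.left := by
        haveI : IsIso (eqToHom (snd_proj ξ) : A.base ⟶ ξ.obj.fst.base).left :=
          inferInstanceAs (IsIso ((Over.forget S).map (eqToHom (snd_proj ξ))))
        exact fppf.comp_mem _ _ (fppf_π A) ⟨⟨inferInstance, inferInstance⟩, inferInstance⟩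
      obtain ⟨u, hu₁, hu₂⟩ := hlift A.φ (π₁ ≫ ξ.obj.fst.sec.down) (by
        rw [Category.assoc, hiso, ← hsh A]
        simp only [π₁, Category.assoc, eqToHom_trans_assoc, eqToHom_refl, Category.id_comp]
        rfl)
      let a₁ : (pt' u).obj.fst ⟶ ξ.obj.fst := ⟨π₁, ULift.ext _ _ hu₂.symm⟩
      let b₁ : (pt' u).obj.snd ⟶ A := trivHom A (𝟙 A.P) (u ≫ pX) ((Category.id_comp _).trans hu₁.symm)
      let m : pt' u ⟶ ξ := ObjectProperty.homMk ⟨a₁, b₁, fp_w a₁ b₁ (by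
        show (𝟙 A.P ≫ A.π : A.P ⟶ A.base) = eqToHom _ ≫ π₁ ≫ eqToHom _
        simp only [π₁, Category.assoc, eqToHom_trans, eqToHom_refl, Category.comp_id]
        )⟩
      have hm : (FibCat.fp F π).p.map m = π₁ := rfl
      refine (Presieve.isSeparatedFor_singleton.1
        (isSheafFor_singleton_fppf N π₁ hπ₁).isSeparatedFor) ?_
      have h1 := secAt_map (BasedFunctor.comp (FibCat.fpFst F π) (AlgSt.ofSpMap χ)) m
      have h2 := secAt_map φ m
      rw [hm] at h1 h2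
      refine h1.trans (Eq.trans ?_ h2.symm)
      rw [hsec, hχ]
      rfl
    · refine ObjectProperty.hom_ext _ ?_
      ext T ⟨x⟩
      exact (hsec χ' x).symm.trans (secAt_eq_of_iso e _)
  have hfib : ∀ ξ : (FibCat.fp F π).p.Fiber (Over.mk t),
      (AlgSt.fibSec (FibCat.fpFst F π) ξ).down = eqToHom ξ.2.symm ≫ ξ.1.obj.fst.sec.down := fun ξ => rfl
  refine ⟨fun m => ?_, fun ξ ζ hξζ => ?_⟩
  · obtain ⟨A, hA⟩ := (hbij Ω t).1 ⟨m.down ≫ g⟩
    obtain ⟨b, hb⟩ := exists_point_torsor A.1 A.2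
    obtain ⟨u, -, hu⟩ := hlift (eqToHom A.2.symm ≫ b ≫ A.1.φ) m.down (by
      rw [Category.assoc, Category.assoc, ← hsh, reassoc_of% hb]
      exact congrArg ULift.down ((fibSec_eq_secAt π A).symm.trans hA))
    refine ⟨⟨pt' u, rfl⟩, ULift.ext _ _ ?_⟩
    rw [hfib, eqToHom_refl, Category.id_comp]
    exact hu
  · obtain ⟨ξ, hξ⟩ := ξ
    obtain ⟨ζ, hζ⟩ := ζ
    have hy : eqToHom hξ.symm ≫ ξ.obj.fst.sec.down = eqToHom hζ.symm ≫ ζ.obj.fst.sec.down := congrArg ULift.down hξζ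
    have hy' : eqToHom (hξ.trans hζ.symm) ≫ ζ.obj.fst.sec.down = ξ.obj.fst.sec.down := by
      rw [← cancel_epi (eqToHom hξ.symm), hy, eqToHom_trans_assoc]
    have hA : ξ.obj.snd.base = Over.mk t := (snd_proj ξ).trans hξ
    have hB : ζ.obj.snd.base = Over.mk t := (snd_proj ζ).trans hζ
    obtain ⟨i⟩ := (hbij Ω t).2 ⟨ξ.obj.snd, hA⟩ ⟨ζ.obj.snd, hB⟩ (ULift.ext _ _ (by
      rw [fibSec_eq_secAt, fibSec_eq_secAt]
      show eqToHom hA.symm ≫ (secAt π ξ.obj.snd).down = eqToHom hB.symm ≫ (secAt π ζ.obj.snd).down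
      have h1 := congrArg (· ≫ g) hy
      simp only [Category.assoc, hiso, eqToHom_trans_assoc] at h1
      exact h1))
    let a₁ : ξ.obj.fst ≅ ζ.obj.fst := eltIso (eqToIso (hξ.trans hζ.symm)) (ULift.ext _ _ hy')
    have hi₁ := map_eq_of_isHomLift_id (p := (AlgSt.QuotSt Scheme.fppfPrecoverage K a).p) i.hom.2
    let b₁ : ξ.obj.snd ≅ ζ.obj.snd := ⟨i.hom.1, i.inv.1, congrArg Subtype.val i.hom_inv_id, congrArg Subtype.val i.inv_hom_id⟩
    let j : ξ ≅ ζ := fpIsoMk a₁ b₁ (fp_w a₁.hom b₁.hom (by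
      exact hi₁.trans (eqToHom_trans3 (snd_proj ξ) (hξ.trans hζ.symm) (snd_proj ζ).symm).symm))
    haveI : (FibCat.fp F π).p.IsHomLift (𝟙 (Over.mk t)) j.hom :=
      IsHomLift.of_fac _ _ _ hξ hζ (eqToHom_trans3 hξ.symm (hξ.trans hζ.symm) hζ).symm
    haveI : (FibCat.fp F π).p.IsHomLift (𝟙 (Over.mk t)) j.inv := inferInstance
    exact ⟨⟨⟨j.hom, inferInstance⟩, ⟨j.inv, inferInstance⟩, Functor.Fiber.hom_ext j.hom_inv_id,
      Functor.Fiber.hom_ext j.inv_hom_id⟩⟩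

end Groth.Agent.ConstQuot

end
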