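import Groth.Agent.ConstQuot.InvFlat
import Groth.Prelude.Def_ConstAct2

/-!
# The constant group acting on an affine scheme
-/

set_option backward.isDefEq.respectTransparency false
set_option backward.isDefEq.respectTransparency.types false

universe u

open CategoryTheory Limits MonoidalCategory CartesianMonoidalCategory MonObj GrpObj AlgebraicGeometry
open scoped TensorProduct

noncomputable section

namespace Groth.Agent.ConstQuot

variable (R : Type u) [CommRing R] (A : Type u) [CommRing A] [Algebra R A]
  (G : Type u) [Group G] [Fintype G] [DecidableEq G] [MulSemiringAction G A] [SMulCommClass G R A]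

omit [Group G] [DecidableEq G] [MulSemiringAction G A] [SMulCommClass G R A] in
theorem flat_GR [Group G] : Flat (ConstAct.GR R G).hom :=
  (HasRingHomProperty.Spec_iff (P := @Flat)).mpr (RingHom.flat_algebraMap_iff.mpr (inferInstance : Module.Flat R (ConstGrp.F R G)))

omit [DecidableEq G] [MulSemiringAction G A] [SMulCommClass G R A] in
theorem lfp_GR : LocallyOfFinitePresentation (ConstAct.GR R G).hom :=
  (HasRingHomProperty.Spec_iff (P := @LocallyOfFinitePresentation)).mpr
    (RingHom.finitePresentation_algebraMap.mpr (by
      haveI : Module.FinitePresentation R (ConstGrp.F R G) := Module.finitePresentation_of_projective R _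
      infer_instance))

/-- The quotient map, in the spelling of the coaction. -/
abbrev q : ConstAct.X R A ⟶ ConstAct.specInv R A G := ConstAct.quot R A G

theorem q_left : (q R A G).left = Spec.map (CommRingCat.ofHom (ConstAct.inv R A G).val.toRingHom) := rfl

theorem act_q : (ConstAct.gaction R A G).act ≫ q R A G = snd (ConstAct.GR R G) (ConstAct.X R A) ≫ q R A G := by
  letI := ConstAct.comod R A G
  haveI := ConstAct.isCoactAlg R A G
  rw [ConstAct.gaction_eq]
  refine (CoactBr.action_act_comp_eq_iff _).mpr (Over.OverMorphism.ext ?_)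
  show (CoactBr.ract R (ConstGrp.F R G) A).left ≫ Spec.map (CommRingCat.ofHom (ConstAct.inv R A G).val.toRingHom) =
    pullback.fst _ _ ≫ Spec.map (CommRingCat.ofHom (ConstAct.inv R A G).val.toRingHom)
  rw [CoactBr.ract_left]
  erw [← pullbackSpecIso_hom_fst R A (ConstGrp.F R G)]
  simp only [Category.assoc, ← Spec.map_comp]
  congr 2
  refine CommRingCat.hom_ext (RingHom.ext fun a => ?_)
  show ConstAct.coactLin R A G (a : A) = (a : A) ⊗ₜ[R] (1 : ConstGrp.F R G)
  rw [ConstAct.coactLin_apply, ← ConstGrp.sum_e, TensorProduct.tmul_sum]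
  exact Finset.sum_congr rfl fun g _ => by rw [a.2 g]

instance : IsAffine (ConstAct.GR R G ⊗ ConstAct.X R A).left :=
  haveI : IsAffine (ConstAct.GR R G).left := inferInstanceAs (IsAffine (Spec _))
  haveI : IsAffine (ConstAct.X R A).left := inferInstanceAs (IsAffine (Spec _))
  inferInstanceAs (IsAffine (pullback (ConstAct.GR R G).hom (ConstAct.X R A).hom))

/-- The section through a constant point. -/
def constSec (g : G) : ConstAct.X R A ⟶ ConstAct.GR R G ⊗ ConstAct.X R A :=
  lift (CoactBr.pt (ConstAct.constPt R G (K := A) g)) (CoactBr.pt (AlgHom.id R A))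

theorem constSec_act (g : G) :
    constSec R A G g ≫ (ConstAct.gaction R A G).act = ConstAct.act R A G g⁻¹ := by
  rw [constSec, ConstAct.gaction_constPt, CoactBr.pt_id]
  exact Category.id_comp _

theorem constSec_snd (g : G) : constSec R A G g ≫ snd (ConstAct.GR R G) (ConstAct.X R A) = 𝟙 _ := by
  rw [constSec, lift_snd, CoactBr.pt_id]

/-- Invariant functions on `Spec A` are functions on `Spec A^G`. -/
theorem invExact : AlgSpDec.InvExact (ConstAct.gaction R A G).act.left
    (snd (ConstAct.GR R G) (ConstAct.X R A)).left (q R A G).left := by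
  let eA := Scheme.ΓSpecIso (CommRingCat.of A)
  let eI := Scheme.ΓSpecIso (CommRingCat.of (ConstAct.inv R A G))
  have hq : ∀ c, eA.hom ((q R A G).left.appTop c) = (eI.hom c : A) := fun c =>
    ConcreteCategory.congr_hom (Scheme.ΓSpecIso_naturality (CommRingCat.ofHom (ConstAct.inv R A G).val.toRingHom)) c
  refine ⟨fun c c' e => ?_, fun b hb => ?_⟩
  · refine (ConcreteCategory.bijective_of_isIso eI.hom).1 (Subtype.ext ?_)
    rw [← hq, ← hq]
    exact congrArg eA.hom e
  · have hinv : ∀ g : G, g • (eA.hom b : A) = eA.hom b := fun g => by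
      have h1 : ((constSec R A G g⁻¹).left ≫ (ConstAct.gaction R A G).act.left).appTop b =
          ((constSec R A G g⁻¹).left ≫ (snd (ConstAct.GR R G) (ConstAct.X R A)).left).appTop b := by
        rw [Scheme.Hom.comp_appTop, Scheme.Hom.comp_appTop]
        exact congrArg (constSec R A G g⁻¹).left.appTop hb
      rw [← Over.comp_left, ← Over.comp_left, constSec_act, constSec_snd, _root_.inv_inv] at h1
      have h2 : eA.hom ((ConstAct.act R A G g).left.appTop b) = g • (eA.hom b : A) :=
        ConcreteCategory.congr_hom
          (Scheme.ΓSpecIso_naturality (CommRingCat.ofHom (MulSemiringAction.toRingHom G A g))) b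
      rw [← h2]
      refine congrArg eA.hom (h1.trans ?_)
      rw [Over.id_left, Scheme.Hom.id_appTop]
      rfl
    refine ⟨eI.inv ⟨eA.hom b, hinv⟩, (ConcreteCategory.bijective_of_isIso eA.hom).1 ?_⟩
    exact (hq _).trans (congrArg Subtype.val (Iso.inv_hom_id_apply eI _))

end Groth.Agent.ConstQuot

end
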