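import Groth.Agent.ConstQuot.EtQuot
import Groth.Agent.ConstQuot.GeomPts
import Mathlib.RingTheory.Etale.Locus
import Mathlib.RingTheory.Invariant.Basic
import Mathlib.RingTheory.Adjoin.Tower
import Mathlib.Algebra.Algebra.Subalgebra.Operations
import Mathlib.AlgebraicGeometry.Morphisms.Etale

/-!
# Etale maps between rings of invariants
-/

set_option backward.isDefEq.respectTransparency false

universe u

open CategoryTheory AlgebraicGeometry

noncomputable section

namespace Groth.Agent.ConstQuot

variable (R : Type u) [CommRing R] (A : Type u) [CommRing A] [Algebra R A] (G : Type u) [Group G] [Finite G]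
  [MulSemiringAction G A] [SMulCommClass G R A]

theorem isInvariant_fixed : Algebra.IsInvariant (FixedPoints.subalgebra R A G) A G :=
  ⟨fun a ha => ⟨⟨a, ha⟩, rfl⟩⟩

theorem finite_fixed [Algebra.FiniteType R A] : Module.Finite (FixedPoints.subalgebra R A G) A :=
  haveI := isInvariant_fixed R A G
  haveI := Algebra.IsInvariant.isIntegral (FixedPoints.subalgebra R A G) A G
  haveI : Algebra.FiniteType (FixedPoints.subalgebra R A G) A :=
    Algebra.FiniteType.of_restrictScalars_finiteType R _ A
  Algebra.IsIntegral.finite

theorem finiteType_fixed [IsNoetherianRing R] [Algebra.FiniteType R A] :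
    Algebra.FiniteType R (FixedPoints.subalgebra R A G) :=
  haveI := finite_fixed R A G
  ⟨fg_of_fg_of_fg R (FixedPoints.subalgebra R A G) A Algebra.FiniteType.out Module.Finite.fg_top
    Subtype.val_injective⟩

/-- The action on the spectrum. -/
def actSpec (g : G) : Spec (CommRingCat.of A) ⟶ Spec (CommRingCat.of A) :=
  Spec.map (CommRingCat.ofHom (MulSemiringAction.toRingHom G A g))

omit [Finite G] in
theorem actSpec_mul (g h : G) : actSpec A G g ≫ actSpec A G h = actSpec A G (g * h) := by
  rw [actSpec, actSpec, ← Spec.map_comp]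
  exact congrArg Spec.map (CommRingCat.hom_ext (RingHom.ext fun a => (mul_smul g h a).symm))

omit [Finite G] in
theorem actSpec_one : actSpec A G 1 = 𝟙 _ := by
  rw [actSpec, ← Spec.map_id]
  exact congrArg Spec.map (CommRingCat.hom_ext (RingHom.ext fun a => one_smul G a))

omit [Finite G] in
theorem actSpec_q (g : G) :
    actSpec A G g ≫ Spec.map (CommRingCat.ofHom (FixedPoints.subalgebra R A G).val.toRingHom) =
      Spec.map (CommRingCat.ofHom (FixedPoints.subalgebra R A G).val.toRingHom) := by
  rw [actSpec, ← Spec.map_comp]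
  exact congrArg Spec.map (CommRingCat.hom_ext (RingHom.ext fun a => a.2 g))

omit [Finite G] in
theorem appTop_fixed_injective : Function.Injective
    (Spec.map (CommRingCat.ofHom (FixedPoints.subalgebra R A G).val.toRingHom)).appTop := by
  intro c c' e
  refine (ConcreteCategory.bijective_of_isIso
    (Scheme.ΓSpecIso (CommRingCat.of (FixedPoints.subalgebra R A G))).hom).1 (Subtype.ext ?_)
  have hq : ∀ c, (Scheme.ΓSpecIso (CommRingCat.of A)).hom
      ((Spec.map (CommRingCat.ofHom (FixedPoints.subalgebra R A G).val.toRingHom)).appTop c) =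
      ((Scheme.ΓSpecIso (CommRingCat.of (FixedPoints.subalgebra R A G))).hom c : A) := fun c =>
    ConcreteCategory.congr_hom
      (Scheme.ΓSpecIso_naturality (CommRingCat.ofHom (FixedPoints.subalgebra R A G).val.toRingHom)) c
  rw [← hq, ← hq, e]

omit [Finite G] in
theorem exists_appTop_fixed (b) (hb : ∀ g, (actSpec A G g).appTop b = b) :
    ∃ c, (Spec.map (CommRingCat.ofHom (FixedPoints.subalgebra R A G).val.toRingHom)).appTop c = b := by
  let eA := Scheme.ΓSpecIso (CommRingCat.of A)
  let eI := Scheme.ΓSpecIso (CommRingCat.of (FixedPoints.subalgebra R A G))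
  have hinv : ∀ g : G, g • (eA.hom b : A) = eA.hom b := fun g => by
    have h2 : eA.hom ((actSpec A G g).appTop b) = g • (eA.hom b : A) :=
      ConcreteCategory.congr_hom
        (Scheme.ΓSpecIso_naturality (CommRingCat.ofHom (MulSemiringAction.toRingHom G A g))) b
    rw [← h2]
    exact congrArg eA.hom (hb g)
  refine ⟨eI.inv ⟨eA.hom b, hinv⟩, (ConcreteCategory.bijective_of_isIso eA.hom).1 ?_⟩
  exact (ConcreteCategory.congr_hom
    (Scheme.ΓSpecIso_naturality (CommRingCat.ofHom (FixedPoints.subalgebra R A G).val.toRingHom)) _).trans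
    (congrArg Subtype.val (Iso.inv_hom_id_apply eI _))

theorem transitive_fixed (Ω : Type u) [Field Ω] (x x' : Spec (CommRingCat.of Ω) ⟶ Spec (CommRingCat.of A))
    (h : x ≫ Spec.map (CommRingCat.ofHom (FixedPoints.subalgebra R A G).val.toRingHom) =
      x' ≫ Spec.map (CommRingCat.ofHom (FixedPoints.subalgebra R A G).val.toRingHom)) :
    ∃ g, x ≫ actSpec A G g = x' := by
  obtain ⟨φ, rfl⟩ := Spec.map_surjective x
  obtain ⟨φ', rfl⟩ := Spec.map_surjective x'
  rw [← Spec.map_comp, ← Spec.map_comp, Spec.map_inj] at h
  haveI := isInvariant_fixed R A G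
  obtain ⟨g, hg⟩ := exists_smul_of_agree (B := FixedPoints.subalgebra R A G) (G := G) φ.hom φ'.hom
    fun b => congrArg (fun k => k.hom b) h
  refine ⟨g, ?_⟩
  rw [actSpec, ← Spec.map_comp]
  exact congrArg Spec.map (CommRingCat.hom_ext (RingHom.ext fun a => (hg a).symm))

variable [IsNoetherianRing R] [Algebra.FiniteType R A]
variable (B : Type u) [CommRing B] [Algebra R B] [MulSemiringAction G B] [SMulCommClass G R B]
  [Algebra.FiniteType R B] [Algebra B A] [IsScalarTower R B A]
  [Algebra (FixedPoints.subalgebra R B G) (FixedPoints.subalgebra R A G)]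
  [IsScalarTower (FixedPoints.subalgebra R B G) (FixedPoints.subalgebra R A G) A]

omit [IsNoetherianRing R] [Algebra.FiniteType R A] [Algebra.FiniteType R B] [Finite G] in
theorem isScalarTower_fixed :
    IsScalarTower R (FixedPoints.subalgebra R B G) (FixedPoints.subalgebra R A G) := by
  refine IsScalarTower.of_algebraMap_eq fun r => Subtype.ext ?_
  have h := IsScalarTower.algebraMap_apply (FixedPoints.subalgebra R B G) (FixedPoints.subalgebra R A G) A
    (algebraMap R _ r)
  refine Eq.trans ?_ h
  exact IsScalarTower.algebraMap_apply R B A r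

theorem finitePresentation_fixed :
    Algebra.FinitePresentation (FixedPoints.subalgebra R B G) (FixedPoints.subalgebra R A G) :=
  haveI := finiteType_fixed R A G
  haveI := finiteType_fixed R B G
  haveI := isScalarTower_fixed R A G B
  haveI : IsNoetherianRing (FixedPoints.subalgebra R B G) := Algebra.FiniteType.isNoetherianRing R _
  haveI : Algebra.FiniteType (FixedPoints.subalgebra R B G) (FixedPoints.subalgebra R A G) :=
    Algebra.FiniteType.of_restrictScalars_finiteType R _ _
  Algebra.FinitePresentation.of_finiteType.1 inferInstance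

/-- An equivariant map etale at a prime with the same inertia below is etale on invariants at the prime below. -/
theorem isEtaleAt_fixed (hGeq : ∀ (g : G) (b : B), algebraMap B A (g • b) = g • algebraMap B A b)
    (x : Ideal A) [x.IsPrime] (hx : Algebra.IsEtaleAt B x)
    (hin : x.inertia G = (x.comap (algebraMap B A)).inertia G) :
    Algebra.IsEtaleAt (FixedPoints.subalgebra R B G)
      (x.comap (algebraMap (FixedPoints.subalgebra R A G) A)) := by
  let A₀ := FixedPoints.subalgebra R A G
  let B₀ := FixedPoints.subalgebra R B G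
  haveI : Algebra.FiniteType B A := Algebra.FiniteType.of_restrictScalars_finiteType R B A
  haveI : IsNoetherianRing B := Algebra.FiniteType.isNoetherianRing R B
  haveI : Algebra.FinitePresentation B A := Algebra.FinitePresentation.of_finiteType.1 inferInstance
  haveI := finitePresentation_fixed R A G B
  let p : PrimeSpectrum A := ⟨x, inferInstance⟩
  obtain ⟨_, ⟨a, rfl⟩, hpa, ha⟩ := PrimeSpectrum.isTopologicalBasis_basic_opens.exists_subset_of_mem_open
    (show p ∈ Algebra.etaleLocus B A from hx) Algebra.isOpen_etaleLocus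
  haveI : Algebra.Etale B (Localization.Away a) := Algebra.basicOpen_subset_etaleLocus_iff_etale.1 ha
  let π : Spec (CommRingCat.of A) ⟶ Spec (CommRingCat.of B) := Spec.map (CommRingCat.ofHom (algebraMap B A))
  let qA : Spec (CommRingCat.of A) ⟶ Spec (CommRingCat.of A₀) := Spec.map (CommRingCat.ofHom A₀.val.toRingHom)
  let qB : Spec (CommRingCat.of B) ⟶ Spec (CommRingCat.of B₀) := Spec.map (CommRingCat.ofHom B₀.val.toRingHom)
  let f : Spec (CommRingCat.of A₀) ⟶ Spec (CommRingCat.of B₀) := Spec.map (CommRingCat.ofHom (algebraMap B₀ A₀))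
  haveI : LocallyOfFinitePresentation f := (HasRingHomProperty.Spec_iff (P := @LocallyOfFinitePresentation)).mpr
    (RingHom.finitePresentation_algebraMap.mpr inferInstance)
  haveI : IsFinite qA := by
    rw [IsFinite.SpecMap_iff]
    exact RingHom.finite_algebraMap.mpr (finite_fixed R A G)
  haveI : IsFinite qB := by
    rw [IsFinite.SpecMap_iff]
    exact RingHom.finite_algebraMap.mpr (finite_fixed R B G)
  let ia : Spec (CommRingCat.of (Localization.Away a)) ⟶ Spec (CommRingCat.of A) :=
    Spec.map (CommRingCat.ofHom (algebraMap A (Localization.Away a)))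
  haveI : IsOpenImmersion ia := IsOpenImmersion.of_isLocalization a
  haveI : Etale (ia ≫ π) := by
    rw [← Spec.map_comp, ← CommRingCat.ofHom_comp, ← IsScalarTower.algebraMap_eq]
    exact (HasRingHomProperty.Spec_iff (P := @Etale)).mpr (RingHom.etale_algebraMap.mpr inferInstance)
  haveI : Etale (ia.opensRange.ι ≫ π) := by
    rw [← ia.isoOpensRange_inv_comp, Category.assoc]
    infer_instance
  have hcomm : qA ≫ f = π ≫ qB := by
    rw [← Spec.map_comp, ← Spec.map_comp]
    exact congrArg Spec.map (CommRingCat.hom_ext (RingHom.ext fun b =>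
      (IsScalarTower.algebraMap_apply B₀ A₀ A b).symm))
  obtain ⟨V, hV, hVet⟩ := exists_open_etale_quot π qA qB f hcomm (actSpec B G) (actSpec A G)
    (fun g => by
      rw [actSpec, actSpec, ← Spec.map_comp, ← Spec.map_comp]
      exact congrArg Spec.map (CommRingCat.hom_ext (RingHom.ext fun b => (hGeq g b).symm)))
    (actSpec_q R A G) (actSpec_q R B G) (actSpec_mul A G) (actSpec_one A G) (actSpec_mul B G) (actSpec_one B G)
    (appTop_fixed_injective R A G) (exists_appTop_fixed R A G)
    (appTop_fixed_injective R B G) (exists_appTop_fixed R B G)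
    (fun Ω _ _ z z' h => transitive_fixed R A G Ω z z' h) (fun Ω _ _ z z' h => transitive_fixed R B G Ω z z' h)
    p ia.opensRange (by
      show p ∈ Set.range (PrimeSpectrum.comap (algebraMap A (Localization.Away a)))
      rw [PrimeSpectrum.localization_away_comap_range (Localization.Away a) a]
      exact hpa)
    (fun Ω _ _ z g hz e => by
      obtain ⟨φ, rfl⟩ := Spec.map_surjective z
      have hker : ∀ c : A, c ∈ x ↔ φ.hom c = 0 := fun c => by
        have h : Ideal.comap φ.hom (⊥ : Ideal Ω) = x := by
          have := congrArg PrimeSpectrum.asIdeal hz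
          refine Eq.trans ?_ this
          show _ = Ideal.comap φ.hom (IsLocalRing.maximalIdeal Ω)
          rw [IsLocalRing.maximalIdeal_eq_bot]
        rw [← h, Ideal.mem_comap, Ideal.mem_bot]
      rw [actSpec, ← Spec.map_comp, ← Spec.map_comp, Spec.map_inj] at e
      have hg : g ∈ x.inertia G := by
        rw [hin]
        intro b
        show algebraMap B A (g • b - b) ∈ x
        rw [hker, map_sub, map_sub, sub_eq_zero]
        exact congrArg (fun k => k.hom b) e
      rw [actSpec, ← Spec.map_comp]
      refine congrArg Spec.map (CommRingCat.hom_ext (RingHom.ext fun c => ?_))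
      have := (hker _).1 (hg c)
      rwa [map_sub, sub_eq_zero] at this)
  obtain ⟨_, ⟨c, rfl⟩, hpc, hcV⟩ := PrimeSpectrum.isTopologicalBasis_basic_opens.exists_subset_of_mem_open hV V.2
  let ic : Spec (CommRingCat.of (Localization.Away c)) ⟶ Spec (CommRingCat.of A₀) :=
    Spec.map (CommRingCat.ofHom (algebraMap A₀ (Localization.Away c)))
  haveI : IsOpenImmersion ic := IsOpenImmersion.of_isLocalization c
  have hr : Set.range ic ⊆ Set.range V.ι := by
    intro y hy
    exact ⟨⟨y, hcV ((Set.ext_iff.1 (PrimeSpectrum.localization_away_comap_range (Localization.Away c) c) y).1 hy)⟩, rfl⟩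
  haveI : Algebra.Etale B₀ (Localization.Away c) := by
    refine RingHom.etale_algebraMap.1 ((HasRingHomProperty.Spec_iff (P := @Etale)
      (φ := CommRingCat.ofHom (algebraMap B₀ (Localization.Away c)))).1 ?_)
    have e : Spec.map (CommRingCat.ofHom (algebraMap B₀ (Localization.Away c))) =
        IsOpenImmersion.lift V.ι ic hr ≫ V.ι ≫ f := by
      rw [IsOpenImmersion.lift_fac_assoc, ← Spec.map_comp, ← CommRingCat.ofHom_comp, ← IsScalarTower.algebraMap_eq]
    rw [e]
    haveI : IsOpenImmersion (IsOpenImmersion.lift V.ι ic hr ≫ V.ι) := by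
      rw [IsOpenImmersion.lift_fac]
      infer_instance
    haveI : IsOpenImmersion (IsOpenImmersion.lift V.ι ic hr) := IsOpenImmersion.of_comp _ V.ι
    infer_instance
  exact (Algebra.basicOpen_subset_etaleLocus_iff_etale (R := B₀)).2 inferInstance hpc

end Groth.Agent.ConstQuot

end
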