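import Groth.Agent.ConstQuot.EtSection
import Groth.Agent.MorLib.QFSplit
import Groth.Agent.AlgSpLib.EtLocalInst

/-!
# Invariant maps lift etale locally on the quotient
-/

set_option backward.isDefEq.respectTransparency false

universe u w

open CategoryTheory Limits AlgebraicGeometry

namespace Groth.Agent.ConstQuot

variable {G : Type w} [Group G] [Finite G]

/-- For a finite morphism with a finite group acting transitively on the geometric points of its fibres, an
equivariant etale morphism has, etale locally on the base around the image of a given point, a section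
with invariant composite. -/
theorem exists_etale_invariant_section {X Y P Z : Scheme.{u}} (q : X ⟶ Y) [IsFinite q] (π : P ⟶ X) [Etale π]
    [IsSeparated π] (c : P ⟶ Z)
    (hmono : ∀ {T : Scheme.{u}} (a b : T ⟶ P), a ≫ π = b ≫ π → a ≫ c = b ≫ c → a = b)
    (ρ : G → (X ⟶ X)) (τ : G → (P ⟶ P)) (hτπ : ∀ g, τ g ≫ π = π ≫ ρ g) (hτc : ∀ g, τ g ≫ c = c)
    (hρq : ∀ g, ρ g ≫ q = q) (hρmul : ∀ g h, ρ g ≫ ρ h = ρ (g * h)) (hρone : ρ 1 = 𝟙 X)
    (htrans : ∀ (Ω : Type u) [Field Ω] [IsAlgClosed Ω] (x x' : Spec (CommRingCat.of Ω) ⟶ X),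
      x ≫ q = x' ≫ q → ∃ g, x ≫ ρ g = x')
    (p : P) :
    ∃ (W : Scheme.{u}) (_ : IsAffine W) (h : W ⟶ Y) (w : W), Etale h ∧ h w = q (π p) ∧
      ∃ s : pullback q h ⟶ P, s ≫ π = pullback.fst q h ∧ (∃ z, pullback.snd q h z = w ∧ s z = p) ∧
        ∀ (g : G) (k : pullback q h ⟶ pullback q h), k ≫ pullback.fst q h = pullback.fst q h ≫ ρ g →
          k ≫ pullback.snd q h = pullback.snd q h → k ≫ s ≫ c = s ≫ c := by
  haveI : LocallyQuasiFinite π := AlgSpLib.locallyQuasiFinite_of_formallyUnramified π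
  obtain ⟨U, gU, u, hgU, hgu, J, hJ, V, v, -, -, hV, hcov⟩ :=
    Groth.Agent.MorLib.WT.exists_split (π ≫ q) (q (π p)) (ι := PUnit) (fun _ => p) (fun _ _ _ => rfl)
      (fun _ => Scheme.Hom.comp_apply π q p) (fun _ => (π ≫ q).quasiFiniteAt p)
  obtain ⟨w₀, hw₁, hw₂⟩ := Scheme.Pullback.exists_preimage_pullback (f := π ≫ q) (g := gU) p u
    ((Scheme.Hom.comp_apply π q p).trans hgu.symm)
  obtain ⟨j, -⟩ := hcov w₀ PUnit.unit hw₂ hw₁
  obtain ⟨hvV, hfinV, hvu, huniq, hpi, hvp⟩ := hV PUnit.unit j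
  -- the base change
  let XU := pullback q gU
  let PU := pullback (π ≫ q) gU
  let πU : PU ⟶ XU := pullback.lift (pullback.fst _ _ ≫ π) (pullback.snd _ _) (by rw [Category.assoc, pullback.condition])
  have sqU : IsPullback (pullback.fst (π ≫ q) gU) πU π (pullback.fst q gU) := by
    refine IsPullback.of_bot ?_ (by simp [πU]) (IsPullback.of_hasPullback q gU)
    simpa [πU] using IsPullback.of_hasPullback (π ≫ q) gU
  haveI : Etale πU := MorphismProperty.of_isPullback sqU ‹Etale π›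
  haveI : IsSeparated πU := MorphismProperty.of_isPullback sqU ‹IsSeparated π›
  have hπs : πU ≫ pullback.snd q gU = pullback.snd (π ≫ q) gU := pullback.lift_snd _ _ _
  haveI : IsFinite ((V PUnit.unit j).ι ≫ πU ≫ pullback.snd q gU) := by rw [hπs]; exact hfinV
  let ρU : G → (XU ⟶ XU) := fun g => pullback.lift (pullback.fst q gU ≫ ρ g) (pullback.snd q gU)
    (by rw [Category.assoc, hρq, pullback.condition])
  let τU : G → (PU ⟶ PU) := fun g => pullback.lift (pullback.fst _ _ ≫ τ g) (pullback.snd _ _)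
    (by rw [Category.assoc, ← Category.assoc (τ g), hτπ, Category.assoc, hρq, pullback.condition])
  have hv : (πU ≫ pullback.snd q gU) (v PUnit.unit j) = u := by rw [hπs]; exact hvu
  obtain ⟨U₁, hu₁, s, hs, ⟨e₀, he₀⟩, hsinv⟩ := exists_section_near πU (pullback.snd q gU) (pullback.fst (π ≫ q) gU ≫ c)
    (fun a b e₁ e₂ => by
      have e₃ := congrArg (fun m => m ≫ pullback.fst q gU) e₁
      have e₄ := congrArg (fun m => m ≫ pullback.snd q gU) e₁
      simp only [Category.assoc, πU, pullback.lift_fst, pullback.lift_snd] at e₃ e₄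
      exact pullback.hom_ext (hmono _ _ (by simpa using e₃) (by simpa using e₂)) e₄)
    ρU τU (fun g => by
      apply pullback.hom_ext
      · simp [ρU, τU, πU, hτπ]
      · simp [ρU, τU, πU])
    (fun g => by simp [τU, hτc])
    (fun g => pullback.lift_snd _ _ _)
    (fun g h => by apply pullback.hom_ext <;> simp [ρU, hρmul])
    (by apply pullback.hom_ext <;> simp [ρU, hρone] <;> exact Category.id_comp _)
    (fun Ω _ _ x x' e => by
      obtain ⟨g, hg⟩ := htrans Ω (x ≫ pullback.fst q gU) (x' ≫ pullback.fst q gU) (by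
        rw [Category.assoc, Category.assoc, pullback.condition, reassoc_of% e])
      exact ⟨g, by
        apply pullback.hom_ext
        · simpa [ρU] using hg
        · simpa [ρU] using e⟩)
    u (V PUnit.unit j) (v PUnit.unit j) hvV hv
    (fun z hz hzu => huniq z hz (by rw [← hπs]; exact hzu)) (by rw [hπs]; exact hpi)
  obtain ⟨_, ⟨W₁, hW₀, rfl⟩, huW, hWU⟩ := U.isBasis_affineOpens.exists_subset_of_mem_open hu₁ U₁.2
  let W₀ : U.Opens := W₁
  refine ⟨W₀, hW₀, W₀.ι ≫ gU, ⟨u, huW⟩, inferInstance, ?_, ?_⟩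
  · rw [Scheme.Hom.comp_apply]
    exact hgu
  let toU : pullback q (W₀.ι ≫ gU) ⟶ XU := pullback.lift (pullback.fst _ _) (pullback.snd _ _ ≫ W₀.ι)
    (by rw [Category.assoc, pullback.condition])
  have hrng : Set.range toU ⊆ Set.range (pullback.snd q gU ⁻¹ᵁ U₁).ι := by
    rintro _ ⟨z, rfl⟩
    refine ⟨⟨toU z, ?_⟩, rfl⟩
    show pullback.snd q gU (toU z) ∈ U₁
    rw [← Scheme.Hom.comp_apply, pullback.lift_snd, Scheme.Hom.comp_apply]
    exact hWU (pullback.snd q (W₀.ι ≫ gU) z).2
  let k₀ := IsOpenImmersion.lift (pullback.snd q gU ⁻¹ᵁ U₁).ι toU hrng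
  have hk₀ : k₀ ≫ (pullback.snd q gU ⁻¹ᵁ U₁).ι = toU := IsOpenImmersion.lift_fac _ _ _
  refine ⟨k₀ ≫ s ≫ pullback.fst (π ≫ q) gU, ?_, ?_, fun g k hk₁ hk₂ => ?_⟩
  · have e := congrArg (fun m => k₀ ≫ m ≫ pullback.fst q gU) hs
    simp only [Category.assoc, πU, pullback.lift_fst, reassoc_of% hk₀, toU] at e ⊢
    exact e
  · let e₁ : XU := (pullback.snd q gU ⁻¹ᵁ U₁).ι e₀
    have he₁ : pullback.snd q gU e₁ = u := by
      have h' : πU (v PUnit.unit j) = e₁ := by
        rw [← he₀]
        exact (Scheme.Hom.comp_apply s πU e₀).symm.trans (congrArg (fun m => m e₀) hs)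
      rw [← h', ← Scheme.Hom.comp_apply]
      exact hv
    obtain ⟨d, hd₁, hd₂⟩ := Scheme.Pullback.exists_preimage_pullback (f := pullback.snd q gU) (g := W₀.ι) e₁
      ⟨u, huW⟩ he₁
    let L : pullback (pullback.snd q gU) W₀.ι ⟶ pullback q (W₀.ι ≫ gU) :=
      pullback.lift (pullback.fst _ _ ≫ pullback.fst _ _) (pullback.snd _ _)
        (by rw [Category.assoc, pullback.condition, pullback.condition_assoc])
    have hL : L ≫ toU = pullback.fst _ _ := by
      apply pullback.hom_ext <;> simp [L, toU, pullback.condition]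
    refine ⟨L d, ?_, ?_⟩
    · rw [← Scheme.Hom.comp_apply, pullback.lift_snd]
      exact hd₂
    · have h₀ : k₀ (L d) = e₀ := (pullback.snd q gU ⁻¹ᵁ U₁).ι.injective (by
        rw [← Scheme.Hom.comp_apply, hk₀, ← Scheme.Hom.comp_apply, hL]
        exact hd₁)
      rw [Scheme.Hom.comp_apply, Scheme.Hom.comp_apply, h₀, he₀]
      exact hvp
  · have h := hsinv g k₀ (k ≫ k₀) (by
      rw [reassoc_of% hk₀, Category.assoc, hk₀]
      apply pullback.hom_ext <;> simp [toU, ρU, hk₁, reassoc_of% hk₂])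
    simpa only [Category.assoc] using h

end Groth.Agent.ConstQuot
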