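import Mathlib.AlgebraicGeometry.ResidueField
import Mathlib.AlgebraicGeometry.PullbackCarrier
import Mathlib.FieldTheory.PurelyInseparable.Basic
import Mathlib.FieldTheory.IsAlgClosed.AlgebraicClosure

/-!
# Geometric points
-/

set_option backward.isDefEq.respectTransparency false

universe u

open CategoryTheory Limits AlgebraicGeometry

namespace Groth.Agent.ConstQuot

variable {X Y P W : Scheme.{u}}

/-- The closed point of the spectrum of a field. -/
abbrev pt (Ω : Type u) [Field Ω] : Spec (CommRingCat.of Ω) := IsLocalRing.closedPoint Ω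

/-- Field valued points at a point with purely inseparable residue field extension are unique. -/
theorem eq_of_purelyInseparable (f : P ⟶ W) {v : P}
    (hv : letI := (f.residueFieldMap v).hom.toAlgebra
      IsPurelyInseparable ↑(W.residueField (f v)) ↑(P.residueField v))
    {Ω : Type u} [Field Ω] (a b : Spec (CommRingCat.of Ω) ⟶ P) (ha : a (pt Ω) = v) (hb : b (pt Ω) = v)
    (e : a ≫ f = b ≫ f) : a = b := by
  obtain ⟨⟨x₁, i₁⟩, rfl⟩ := (Scheme.SpecToEquivOfField Ω P).symm.surjective a
  obtain ⟨⟨x₂, i₂⟩, rfl⟩ := (Scheme.SpecToEquivOfField Ω P).symm.surjective b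
  have e2 : ∀ (y : P) (i : P.residueField y ⟶ CommRingCat.of Ω),
      ((Scheme.SpecToEquivOfField Ω P).symm ⟨y, i⟩) (pt Ω) = y :=
    fun y i => Scheme.fromSpecResidueField_apply y _
  rw [e2] at ha hb
  subst ha hb
  change (Spec.map i₁ ≫ P.fromSpecResidueField x₂) ≫ f = (Spec.map i₂ ≫ P.fromSpecResidueField x₂) ≫ f at e
  rw [Category.assoc, Category.assoc, ← f.SpecMap_residueFieldMap_fromSpecResidueField,
    ← Spec.map_comp_assoc, ← Spec.map_comp_assoc, cancel_mono, Spec.map_inj] at e
  letI := (f.residueFieldMap x₂).hom.toAlgebra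
  haveI := hv
  have := IsPurelyInseparable.injective_comp_algebraMap (W.residueField (f x₂)) (P.residueField x₂) Ω
    (congrArg CommRingCat.Hom.hom e)
  rw [show i₁ = i₂ from CommRingCat.hom_ext this]

/-- A geometric point centred at a point. -/
theorem exists_geomPoint (x : X) : ∃ (Ω : Type u) (_ : Field Ω) (_ : IsAlgClosed Ω)
    (a : Spec (CommRingCat.of Ω) ⟶ X), a (pt Ω) = x := by
  let Ω := AlgebraicClosure (X.residueField x)
  exact ⟨Ω, inferInstance, inferInstance, Spec.map (CommRingCat.ofHom (algebraMap (X.residueField x) Ω)) ≫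
    X.fromSpecResidueField x, Scheme.fromSpecResidueField_apply x _⟩

/-- A common geometric point over two points with the same image. -/
theorem exists_geomPoint_pair (f : X ⟶ W) (g : P ⟶ W) {x : X} {v : P} (h : f x = g v) :
    ∃ (Ω : Type u) (_ : Field Ω) (_ : IsAlgClosed Ω) (a : Spec (CommRingCat.of Ω) ⟶ X)
      (b : Spec (CommRingCat.of Ω) ⟶ P), a ≫ f = b ≫ g ∧ a (pt Ω) = x ∧ b (pt Ω) = v := by
  obtain ⟨z, hz₁, hz₂⟩ := Scheme.Pullback.exists_preimage_pullback x v h
  obtain ⟨Ω, _, _, a, ha⟩ := exists_geomPoint z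
  exact ⟨Ω, inferInstance, inferInstance, a ≫ pullback.fst f g, a ≫ pullback.snd f g,
    by rw [Category.assoc, Category.assoc, pullback.condition],
    by rw [Scheme.Hom.comp_apply, ha, hz₁], by rw [Scheme.Hom.comp_apply, ha, hz₂]⟩

end Groth.Agent.ConstQuot
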