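import Groth.Agent.ConstQuot.CatSp
import Groth.Agent.FlatPtDesc.Basic
import Mathlib.AlgebraicGeometry.Morphisms.Finite

/-!
# Etale maps between quotients by finite groups

An equivariant morphism which is etale at a point and preserves the geometric stabilizer of the point induces a
morphism of quotients which is etale at the image of the point.
-/

set_option backward.isDefEq.respectTransparency false

universe u w

open CategoryTheory Limits AlgebraicGeometry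

namespace Groth.Agent.ConstQuot

variable {G : Type u} [Group G] [Finite G]

/-- Invariant morphisms descend uniquely along an affine flat base change of a quotient map: uniqueness. -/
theorem eq_of_snd_comp_eq {X Y W Z : Scheme.{u}} [IsAffine X] [IsAffine Y] [IsAffine W] [IsAffine Z] (q : X ⟶ Y)
    (ρ : G → (X ⟶ X)) (hρq : ∀ g, ρ g ≫ q = q) (hinj : Function.Injective q.appTop)
    (hfix : ∀ b, (∀ g, (ρ g).appTop b = b) → ∃ a, q.appTop a = b) (h : W ⟶ Y) [Flat h] {a b : W ⟶ Z}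
    (e : pullback.snd q h ≫ a = pullback.snd q h ≫ b) : a = b := by
  refine ext_of_isAffine ?_
  ext z
  refine (invariant_baseChange q ρ hρq hinj hfix h).1 ?_
  have e' := congrArg (fun k : pullback q h ⟶ Z => k.appTop z) e
  simp only [Scheme.Hom.comp_appTop] at e' ⊢
  exact e'

/-- The open where the map is etale and jointly injective with the quotient map. -/
theorem exists_open_jointly_mono {P X Q Y : Scheme.{u}} (π : P ⟶ X) (qA : P ⟶ Q) (qB : X ⟶ Y) (f : Q ⟶ Y)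
    [IsFinite qA] [IsSeparated qB]
    (hcomm : qA ≫ f = π ≫ qB) (ρ : G → (X ⟶ X)) (τ : G → (P ⟶ P)) (hτπ : ∀ g, τ g ≫ π = π ≫ ρ g)
    (hτq : ∀ g, τ g ≫ qA = qA) (hρq : ∀ g, ρ g ≫ qB = qB) (hτmul : ∀ g h, τ g ≫ τ h = τ (g * h))
    (hτone : τ 1 = 𝟙 P) (hρmul : ∀ g h, ρ g ≫ ρ h = ρ (g * h)) (hρone : ρ 1 = 𝟙 X)
    (htA : ∀ (Ω : Type u) [Field Ω] [IsAlgClosed Ω] (x x' : Spec (CommRingCat.of Ω) ⟶ P),
      x ≫ qA = x' ≫ qA → ∃ g, x ≫ τ g = x')
    (p : P) (U : P.Opens) (hp : p ∈ U) [Etale (U.ι ≫ π)]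
    (hstab : ∀ (Ω : Type u) [Field Ω] [IsAlgClosed Ω] (a : Spec (CommRingCat.of Ω) ⟶ P) (g : G),
      a (pt Ω) = p → (a ≫ π) ≫ ρ g = a ≫ π → a ≫ τ g = a) :
    ∃ P' : P.Opens, p ∈ P' ∧ Etale (P'.ι ≫ π) ∧ (∀ g z, z ∈ P' → τ g z ∈ P') ∧
      ∀ {T : Scheme.{u}} (a b : T ⟶ P), (∀ t, a t ∈ P') → a ≫ π = b ≫ π → a ≫ qA = b ≫ qA → a = b := by
  classical
  haveI hτiso : ∀ g, IsIso (τ g) := fun g =>
    ⟨τ g⁻¹, by rw [hτmul, mul_inv_cancel, hτone], by rw [hτmul, inv_mul_cancel, hτone]⟩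
  haveI hρiso : ∀ g, IsIso (ρ g) := fun g =>
    ⟨ρ g⁻¹, by rw [hρmul, mul_inv_cancel, hρone], by rw [hρmul, inv_mul_cancel, hρone]⟩
  -- the stable etale locus
  let U₁ : P.Opens := ⨆ g, τ g ⁻¹ᵁ U
  have hU₁ : ∀ g z, z ∈ U₁ → τ g z ∈ U₁ := fun g z hz => by
    obtain ⟨g', hg'⟩ := TopologicalSpace.Opens.mem_iSup.1 hz
    refine TopologicalSpace.Opens.mem_iSup.2 ⟨g⁻¹ * g', ?_⟩
    show τ (g⁻¹ * g') (τ g z) ∈ U
    rw [← Scheme.Hom.comp_apply, hτmul, mul_inv_cancel_left]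
    exact hg'
  have hpU₁ : p ∈ U₁ := TopologicalSpace.Opens.mem_iSup.2 ⟨1, by show τ 1 p ∈ U; rw [hτone]; exact hp⟩
  haveI : Etale (U₁.ι ≫ π) := by
    refine (IsZariskiLocalAtSource.iff_of_iSup_eq_top (P := @Etale) (fun g => U₁.ι ⁻¹ᵁ (τ g ⁻¹ᵁ U))
      (eq_top_iff.2 fun z _ => by
        obtain ⟨i, hi⟩ := TopologicalSpace.Opens.mem_iSup.1 (show U₁.ι z ∈ U₁ from z.2)
        exact TopologicalSpace.Opens.mem_iSup.2 ⟨i, hi⟩)).2 fun g => ?_
    show Etale ((U₁.ι ⁻¹ᵁ (τ g ⁻¹ᵁ U)).ι ≫ U₁.ι ≫ π)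
    haveI : IsIso (τ g ∣_ U) := inferInstance
    have e : (τ g ⁻¹ᵁ U).ι ≫ π = (τ g ∣_ U) ≫ (U.ι ≫ π) ≫ ρ g⁻¹ := by
      rw [Category.assoc, morphismRestrict_ι_assoc, ← Category.assoc (τ g) π, hτπ, Category.assoc, hρmul,
        mul_inv_cancel, hρone, Category.comp_id]
    have e' : (U₁.ι ⁻¹ᵁ (τ g ⁻¹ᵁ U)).ι ≫ U₁.ι ≫ π = (U₁.ι ∣_ (τ g ⁻¹ᵁ U)) ≫ (τ g ⁻¹ᵁ U).ι ≫ π := by
      rw [morphismRestrict_ι_assoc]
    rw [e', e]
    infer_instance
  -- the locus where the map to the product is injective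
  let m : P ⟶ pullback qB f := pullback.lift π qA hcomm.symm
  haveI : IsFinite m := by
    haveI : IsFinite (m ≫ pullback.snd qB f) := by rw [pullback.lift_snd]; infer_instance
    exact IsFinite.of_comp m (pullback.snd qB f)
  let m₁ : U₁.toScheme ⟶ pullback qB f := U₁.ι ≫ m
  haveI : FormallyUnramified m₁ := by
    haveI : FormallyUnramified (m₁ ≫ pullback.fst qB f) := by
      simp only [m₁, m, Category.assoc, pullback.lift_fst]
      infer_instance
    exact FormallyUnramified.of_comp m₁ (pullback.fst qB f)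
  haveI : IsOpenImmersion (pullback.diagonal m₁) := inferInstance
  let J : pullback m₁ m₁ ⟶ pullback m m := pullback.map m₁ m₁ m m U₁.ι U₁.ι (𝟙 _) (Category.comp_id _) (Category.comp_id _)
  let Δ : U₁.toScheme ⟶ pullback m m := pullback.diagonal m₁ ≫ J
  haveI : IsOpenImmersion J := inferInstance
  haveI : IsOpenImmersion Δ := inferInstance
  have hΔ₁ : Δ ≫ pullback.fst m m = U₁.ι := by simp [Δ, J]
  have hΔ₂ : Δ ≫ pullback.snd m m = U₁.ι := by simp [Δ, J]
  let bad : Set P := pullback.fst m m '' (Set.range Δ)ᶜ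
  have hbad : IsClosed bad := (pullback.fst m m).isClosedMap _ Δ.isOpenEmbedding.isOpen_range.isClosed_compl
  have hmτ : ∀ g, τ g ≫ m = m ≫ pullback.lift (pullback.fst qB f ≫ ρ g) (pullback.snd qB f)
      (by rw [Category.assoc, hρq, pullback.condition]) := fun g => by
    apply pullback.hom_ext <;> simp [m, hτπ, hτq]
  have hbadτ : ∀ g z, z ∈ bad → τ g z ∈ bad := by
    rintro g _ ⟨z, hz, rfl⟩
    let σ : G → (pullback m m ⟶ pullback m m) := fun g => pullback.lift (pullback.fst m m ≫ τ g)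
      (pullback.snd m m ≫ τ g) (by rw [Category.assoc, Category.assoc, hmτ, pullback.condition_assoc])
    refine ⟨σ g z, ?_, ?_⟩
    · rintro ⟨x, hx⟩
      refine hz ⟨⟨τ g⁻¹ (U₁.ι x), hU₁ g⁻¹ _ x.2⟩, ?_⟩
      let l : U₁.toScheme ⟶ U₁.toScheme := IsOpenImmersion.lift U₁.ι (U₁.ι ≫ τ g⁻¹) (by
        rintro _ ⟨y, rfl⟩
        exact ⟨⟨_, hU₁ g⁻¹ _ y.2⟩, rfl⟩)
      have hl : l ≫ U₁.ι = U₁.ι ≫ τ g⁻¹ := IsOpenImmersion.lift_fac _ _ _
      have e₁ : l x = ⟨τ g⁻¹ (U₁.ι x), hU₁ g⁻¹ _ x.2⟩ :=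
        Subtype.ext ((Scheme.Hom.comp_apply l U₁.ι x).symm.trans (congrArg (fun k => k x) hl))
      have hσ₁ : ∀ g, σ g ≫ pullback.fst m m = pullback.fst m m ≫ τ g := fun g => pullback.lift_fst _ _ _
      have hσ₂ : ∀ g, σ g ≫ pullback.snd m m = pullback.snd m m ≫ τ g := fun g => pullback.lift_snd _ _ _
      have e₂ : l ≫ Δ = Δ ≫ σ g⁻¹ := by
        apply pullback.hom_ext
        · rw [Category.assoc, hΔ₁, hl, Category.assoc, hσ₁, ← Category.assoc, hΔ₁]
        · rw [Category.assoc, hΔ₂, hl, Category.assoc, hσ₂, ← Category.assoc, hΔ₂]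
      have e₃ : σ g ≫ σ g⁻¹ = 𝟙 _ := by
        apply pullback.hom_ext
        · rw [Category.assoc, hσ₁, ← Category.assoc, hσ₁, Category.assoc, hτmul, mul_inv_cancel, hτone,
            Category.comp_id, Category.id_comp]
        · rw [Category.assoc, hσ₂, ← Category.assoc, hσ₂, Category.assoc, hτmul, mul_inv_cancel, hτone,
            Category.comp_id, Category.id_comp]
      rw [← e₁, ← Scheme.Hom.comp_apply, e₂, Scheme.Hom.comp_apply, hx, ← Scheme.Hom.comp_apply, e₃]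
      rfl
    · rw [← Scheme.Hom.comp_apply, pullback.lift_fst]
      rfl
  let P' : P.Opens := U₁ ⊓ ⟨badᶜ, hbad.isOpen_compl⟩
  have hP' : ∀ g z, z ∈ P' → τ g z ∈ P' := fun g z hz => ⟨hU₁ g z hz.1, fun h => hz.2 (by
    have := hbadτ g⁻¹ _ h
    rwa [← Scheme.Hom.comp_apply, hτmul, mul_inv_cancel, hτone] at this)⟩
  have hpP' : p ∈ P' := by
    refine ⟨hpU₁, ?_⟩
    rintro ⟨z, hz, hzp⟩
    obtain ⟨Ω, _, _, zb, hzb⟩ := exists_geomPoint z
    let a := zb ≫ pullback.fst m m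
    let b := zb ≫ pullback.snd m m
    have hab : a ≫ m = b ≫ m := by simp only [a, b, Category.assoc, pullback.condition]
    have hq : a ≫ qA = b ≫ qA := by simpa [m] using hab =≫ pullback.snd qB f
    have hπ' : a ≫ π = b ≫ π := by simpa [m] using hab =≫ pullback.fst qB f
    obtain ⟨g, hg⟩ := htA Ω a b hq
    have hap : a (pt Ω) = p := by rw [Scheme.Hom.comp_apply, hzb, hzp]
    have e : b = a := hg.symm.trans (hstab Ω a g hap (by
      rw [Category.assoc, ← hτπ, ← Category.assoc, hg, hπ']))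
    have ha : Set.range a ⊆ Set.range U₁.ι := by
      rintro _ ⟨t, rfl⟩
      rw [Subsingleton.elim t (pt Ω), hap]
      exact ⟨⟨p, hpU₁⟩, rfl⟩
    have hzΔ : IsOpenImmersion.lift U₁.ι a ha ≫ Δ = zb := by
      apply pullback.hom_ext
      · rw [Category.assoc, hΔ₁, IsOpenImmersion.lift_fac]
      · rw [Category.assoc, hΔ₂, IsOpenImmersion.lift_fac]
        exact e.symm
    exact hz ⟨IsOpenImmersion.lift U₁.ι a ha (pt Ω), by rw [← Scheme.Hom.comp_apply, hzΔ, hzb]⟩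
  -- joint injectivity
  have hmono₀ : ∀ {T : Scheme.{u}} (a b : T ⟶ P), (∀ t, a t ∈ P') → a ≫ π = b ≫ π → a ≫ qA = b ≫ qA → a = b := by
    intro T a b ha e₁ e₂
    let l : T ⟶ pullback m m := pullback.lift a b (by apply pullback.hom_ext <;> simp [m, e₁, e₂])
    have hr : Set.range l ⊆ Set.range Δ := by
      rintro _ ⟨t, rfl⟩
      by_contra hc
      exact (ha t).2 ⟨l t, hc, by rw [← Scheme.Hom.comp_apply, pullback.lift_fst]⟩
    have e₃ := IsOpenImmersion.lift_fac Δ l hr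
    have e₄ := e₃ =≫ pullback.fst m m
    have e₅ := e₃ =≫ pullback.snd m m
    simp only [Category.assoc, hΔ₁, hΔ₂, l, pullback.lift_fst, pullback.lift_snd] at e₄ e₅
    exact e₄.symm.trans e₅
  refine ⟨P', hpP', ?_, hP', hmono₀⟩
  rw [← P.homOfLE_ι (inf_le_left : P' ≤ U₁), Category.assoc]
  infer_instance

/-- An equivariant morphism which is etale at `p` and preserves the stabilizer of a geometric point over `p` induces a
morphism of quotients etale at the image of `p`. -/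
theorem exists_open_etale_quot {P X Q Y : Scheme.{u}} [IsAffine P] [IsAffine X] [IsAffine Q] [IsAffine Y]
    (π : P ⟶ X) (qA : P ⟶ Q) (qB : X ⟶ Y) (f : Q ⟶ Y) [LocallyOfFinitePresentation f] [IsFinite qA] [IsFinite qB]
    (hcomm : qA ≫ f = π ≫ qB) (ρ : G → (X ⟶ X)) (τ : G → (P ⟶ P)) (hτπ : ∀ g, τ g ≫ π = π ≫ ρ g)
    (hτq : ∀ g, τ g ≫ qA = qA) (hρq : ∀ g, ρ g ≫ qB = qB) (hτmul : ∀ g h, τ g ≫ τ h = τ (g * h))
    (hτone : τ 1 = 𝟙 P) (hρmul : ∀ g h, ρ g ≫ ρ h = ρ (g * h)) (hρone : ρ 1 = 𝟙 X)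
    (hAinj : Function.Injective qA.appTop) (hAfix : ∀ b, (∀ g, (τ g).appTop b = b) → ∃ a, qA.appTop a = b)
    (hBinj : Function.Injective qB.appTop) (hBfix : ∀ b, (∀ g, (ρ g).appTop b = b) → ∃ a, qB.appTop a = b)
    (htA : ∀ (Ω : Type u) [Field Ω] [IsAlgClosed Ω] (x x' : Spec (CommRingCat.of Ω) ⟶ P),
      x ≫ qA = x' ≫ qA → ∃ g, x ≫ τ g = x')
    (htB : ∀ (Ω : Type u) [Field Ω] [IsAlgClosed Ω] (x x' : Spec (CommRingCat.of Ω) ⟶ X),
      x ≫ qB = x' ≫ qB → ∃ g, x ≫ ρ g = x')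
    (p : P) (U : P.Opens) (hp : p ∈ U) [Etale (U.ι ≫ π)]
    (hstab : ∀ (Ω : Type u) [Field Ω] [IsAlgClosed Ω] (a : Spec (CommRingCat.of Ω) ⟶ P) (g : G),
      a (pt Ω) = p → (a ≫ π) ≫ ρ g = a ≫ π → a ≫ τ g = a) :
    ∃ V : Q.Opens, qA p ∈ V ∧ Etale (V.ι ≫ f) := by
  classical
  obtain ⟨P', hpP', hPet, hP', hmono₀⟩ := exists_open_jointly_mono π qA qB f hcomm ρ τ hτπ hτq hρq hτmul hτone hρmul
    hρone htA p U hp hstab
  haveI := hPet
  have hrng : ∀ g, Set.range (P'.ι ≫ τ g) ⊆ Set.range P'.ι := fun g => by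
    rintro _ ⟨⟨z, hz⟩, rfl⟩
    exact ⟨⟨τ g z, hP' g z hz⟩, rfl⟩
  let τ' : G → (P'.toScheme ⟶ P'.toScheme) := fun g => IsOpenImmersion.lift P'.ι _ (hrng g)
  have hτ' : ∀ g, τ' g ≫ P'.ι = P'.ι ≫ τ g := fun g => IsOpenImmersion.lift_fac _ _ _
  obtain ⟨W, hW, h, w, hh, hw, s, hs, ⟨z₀, hz₀, hsz₀⟩, hsinv⟩ := exists_etale_invariant_section qB (P'.ι ≫ π)
    (P'.ι ≫ qA)
    (fun a b e₁ e₂ => (cancel_mono P'.ι).1 (hmono₀ _ _ (fun t => (a t).2) (by simpa using e₁) (by simpa using e₂)))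
    ρ τ' (fun g => by rw [reassoc_of% hτ' g, hτπ, Category.assoc]) (fun g => by rw [reassoc_of% hτ' g, hτq])
    hρq hρmul hρone htB ⟨p, hpP'⟩
  haveI := hW
  haveI := hh
  obtain ⟨χ, hχ⟩ := (invariant_baseChange qB ρ hρq hBinj hBfix h).2 (s ≫ P'.ι ≫ qA) (fun g k hk₁ hk₂ => hsinv g k hk₁ hk₂)
  have hs' : s ≫ P'.ι ≫ π = pullback.fst qB h := hs
  have hχf : χ ≫ f = h := eq_of_snd_comp_eq qB ρ hρq hBinj hBfix h (by
    rw [reassoc_of% hχ, hcomm, reassoc_of% hs', pullback.condition])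
  -- the point of the pulled back quotient
  let QW := pullback f h
  let χ' : W ⟶ QW := pullback.lift χ (𝟙 _) (by rw [hχf, Category.id_comp])
  let x' : QW := χ' w
  have hx'₁ : pullback.fst f h x' = qA p := by
    rw [← Scheme.Hom.comp_apply, pullback.lift_fst, ← hz₀, ← Scheme.Hom.comp_apply, hχ, Scheme.Hom.comp_apply, hsz₀,
      Scheme.Hom.comp_apply]
    rfl
  -- the image of the section
  let PW := pullback qA (pullback.fst f h)
  let pA : PW ⟶ QW := pullback.snd qA (pullback.fst f h)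
  let s' : pullback qB h ⟶ PW := pullback.lift (s ≫ P'.ι) (pullback.snd qB h ≫ χ')
    (by simp [χ', hχ])
  let r : PW ⟶ pullback qB h := pullback.lift (pullback.fst _ _ ≫ π) (pA ≫ pullback.snd f h)
    (by rw [Category.assoc, ← hcomm, pullback.condition_assoc, Category.assoc, pullback.condition])
  have hs'r : s' ≫ r = 𝟙 _ := by
    apply pullback.hom_ext
    · simp only [s', r, Category.assoc, pullback.lift_fst, pullback.lift_fst_assoc, hs', Category.id_comp]
    · simp [s', r, pA, χ']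
  have sqR : IsPullback (pullback.fst qA (pullback.fst f h)) r π (pullback.fst qB h) := by
    refine IsPullback.of_bot ?_ (by simp [r]) (IsPullback.of_hasPullback qB h)
    have := (IsPullback.of_hasPullback qA (pullback.fst f h)).paste_vert (IsPullback.of_hasPullback f h)
    rw [hcomm] at this
    simpa [r, pA] using this
  let O₁ : PW.Opens := pullback.fst qA (pullback.fst f h) ⁻¹ᵁ P'
  haveI : Etale (O₁.ι ≫ r) := MorphismProperty.of_isPullback
    ((isPullback_morphismRestrict (pullback.fst qA (pullback.fst f h)) P').paste_vert sqR) ‹Etale (P'.ι ≫ π)›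
  have hs'O : Set.range s' ⊆ Set.range O₁.ι := by
    rintro _ ⟨t, rfl⟩
    refine ⟨⟨s' t, ?_⟩, rfl⟩
    show pullback.fst qA (pullback.fst f h) (s' t) ∈ P'
    rw [← Scheme.Hom.comp_apply, pullback.lift_fst, Scheme.Hom.comp_apply]
    exact (s t).2
  let s'' := IsOpenImmersion.lift O₁.ι s' hs'O
  have hs'' : s'' ≫ O₁.ι = s' := IsOpenImmersion.lift_fac _ _ _
  haveI : IsOpenImmersion s' := by
    haveI : Etale (s'' ≫ O₁.ι ≫ r) := by
      rw [← Category.assoc, hs'', hs'r]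
      infer_instance
    haveI : Etale s'' := Etale.of_comp s'' (O₁.ι ≫ r)
    haveI : Mono s'' := ⟨fun a b e => by
      have e' := congrArg (fun k => k ≫ O₁.ι ≫ r) e
      simp only [Category.assoc, reassoc_of% hs'', hs'r, Category.comp_id] at e'
      exact e'⟩
    haveI : IsOpenImmersion s'' := IsOpenImmersion.of_flat_of_mono _
    rw [← hs'']
    infer_instance
  haveI : IsFinite pA := inferInstanceAs (IsFinite (pullback.snd qA (pullback.fst f h)))
  let D₀ : QW.Opens := ⟨(pA '' (Set.range s')ᶜ)ᶜ,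
    (pA.isClosedMap _ s'.isOpenEmbedding.isOpen_range.isClosed_compl).isOpen_compl⟩
  have hx'D : x' ∈ D₀ := by
    rintro ⟨z, hz, hzx⟩
    refine hz ?_
    obtain ⟨Ω, _, _, zb, eb, e, hzb, heb⟩ := exists_geomPoint_pair pA (s' ≫ pA) (x := z) (v := z₀) (by
      rw [hzx, Scheme.Hom.comp_apply, ← Scheme.Hom.comp_apply, pullback.lift_snd, Scheme.Hom.comp_apply, hz₀])
    have e₁ : zb ≫ pullback.fst qA (pullback.fst f h) ≫ qA = (eb ≫ s ≫ P'.ι) ≫ qA := by
      have := congrArg (fun k => k ≫ pullback.fst f h) e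
      simp only [Category.assoc, pA, ← pullback.condition, s', pullback.lift_fst_assoc] at this
      simpa only [Category.assoc] using this
    obtain ⟨g, hg⟩ := htA Ω (eb ≫ s ≫ P'.ι) (zb ≫ pullback.fst qA (pullback.fst f h))
      (by rw [Category.assoc zb]; exact e₁.symm)
    let k : pullback qB h ⟶ pullback qB h := pullback.lift (pullback.fst qB h ≫ ρ g) (pullback.snd qB h)
      (by rw [Category.assoc, hρq, pullback.condition])
    have hkc : k ≫ s ≫ P'.ι ≫ qA = s ≫ P'.ι ≫ qA := hsinv g k (pullback.lift_fst _ _ _) (pullback.lift_snd _ _ _)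
    have hks : k ≫ s ≫ P'.ι = s ≫ P'.ι ≫ τ g := hmono₀ _ _ (fun t => by
      rw [← Category.assoc, Scheme.Hom.comp_apply]
      exact ((k ≫ s) t).2)
      (by simp only [Category.assoc, hs', k, pullback.lift_fst, hτπ, reassoc_of% hs'])
      (by simp only [Category.assoc, hτq]; exact hkc)
    have hz' : (eb ≫ k) ≫ s' = zb := by
      apply pullback.hom_ext
      · simp only [s', Category.assoc, pullback.lift_fst, hks, ← hg]
      · have e' : zb ≫ pA = eb ≫ pullback.snd qB h ≫ χ' := by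
          rw [e]
          simp [s', pA]
        simp only [s', Category.assoc, pullback.lift_snd, k, pullback.lift_snd_assoc]
        exact e'.symm
    exact ⟨(eb ≫ k) (pt Ω), by rw [← Scheme.Hom.comp_apply, hz', hzb]⟩
  -- an affine neighbourhood
  obtain ⟨_, ⟨D₁, hD₁, rfl⟩, hxD, hDD⟩ := QW.isBasis_affineOpens.exists_subset_of_mem_open hx'D D₀.2
  let D : QW.Opens := D₁
  haveI : IsAffine D.toScheme := hD₁
  haveI : IsAffine QW := inferInstanceAs (IsAffine (pullback f h))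
  -- the projection restricted to the neighbourhood is inverse to the section
  have hDχ : D.ι ≫ pullback.snd f h ≫ χ' = D.ι := by
    refine eq_of_snd_comp_eq qA τ hτq hAinj hAfix (D.ι ≫ pullback.fst f h) ?_
    let l : pullback qA (D.ι ≫ pullback.fst f h) ⟶ PW :=
      pullback.lift (pullback.fst _ _) (pullback.snd _ _ ≫ D.ι) (by rw [Category.assoc, pullback.condition])
    have hl : Set.range l ⊆ Set.range s' := by
      rintro _ ⟨t, rfl⟩
      by_contra hc
      refine hDD (pullback.snd qA (D.ι ≫ pullback.fst f h) t).2 ⟨l t, hc, ?_⟩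
      rw [← Scheme.Hom.comp_apply, pullback.lift_snd, Scheme.Hom.comp_apply]
      rfl
    have e₀ : IsOpenImmersion.lift s' l hl ≫ s' = l := IsOpenImmersion.lift_fac _ _ _
    have e₁ : pullback.snd qA (D.ι ≫ pullback.fst f h) ≫ D.ι = l ≫ pA := (pullback.lift_snd _ _ _).symm
    have e₂ : s' ≫ pA ≫ pullback.snd f h ≫ χ' = s' ≫ pA := by
      simp only [s', pA, χ', pullback.lift_snd_assoc, pullback.lift_snd, Category.assoc]
      exact congrArg _ (Category.id_comp _)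
    rw [reassoc_of% e₁, e₁, ← e₀, Category.assoc, Category.assoc, e₂]
  let Wd : W.Opens := χ' ⁻¹ᵁ D
  have hj : Set.range (D.ι ≫ pullback.snd f h) ⊆ Set.range Wd.ι := by
    rintro _ ⟨t, rfl⟩
    refine ⟨⟨(D.ι ≫ pullback.snd f h) t, ?_⟩, rfl⟩
    show χ' ((D.ι ≫ pullback.snd f h) t) ∈ D
    rw [← Scheme.Hom.comp_apply, Category.assoc, hDχ]
    exact t.2
  let j := IsOpenImmersion.lift Wd.ι (D.ι ≫ pullback.snd f h) hj
  have hj' : j ≫ Wd.ι = D.ι ≫ pullback.snd f h := IsOpenImmersion.lift_fac _ _ _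
  haveI : IsIso j := ⟨χ' ∣_ D, by
      rw [← cancel_mono D.ι, Category.assoc, morphismRestrict_ι, reassoc_of% hj', hDχ, Category.id_comp], by
      rw [← cancel_mono Wd.ι, Category.assoc, hj', morphismRestrict_ι_assoc, Category.id_comp]
      simp [χ']
      rfl⟩
  haveI : Etale (D.ι ≫ pullback.snd f h) := by
    rw [← hj']
    infer_instance
  obtain ⟨V, hxV, hV⟩ := FlatPtDesc.etale_nhd_descend f h x' (Flat.stalkMap _ _) ⟨D, hxD, inferInstance⟩
  exact ⟨V, hx'₁ ▸ hxV, hV⟩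

end Groth.Agent.ConstQuot
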