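import Groth.Agent.ConstQuot.EtPoints
import Mathlib.AlgebraicGeometry.Morphisms.Finite
import Mathlib.AlgebraicGeometry.Morphisms.Etale
import Mathlib.AlgebraicGeometry.Morphisms.QuasiFinite
import Mathlib.AlgebraicGeometry.Morphisms.FlatMono

/-!
# Invariant sections of etale morphisms with finite group action
-/

set_option backward.isDefEq.respectTransparency false

universe u w

open CategoryTheory Limits AlgebraicGeometry

namespace Groth.Agent.ConstQuot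

variable {G : Type w} [Group G] [Finite G]

/-- An etale morphism carrying a translation family of finite pieces with one geometric point over each
geometric point of the fibre over `u` has an invariant section near the fibre. -/
theorem exists_section_near {X P U Z : Scheme.{u}} (π : P ⟶ X) [Etale π] [IsSeparated π] (sX : X ⟶ U) [IsFinite sX]
    (c : P ⟶ Z) (hmono : ∀ {T : Scheme.{u}} (a b : T ⟶ P), a ≫ π = b ≫ π → a ≫ c = b ≫ c → a = b)
    (ρ : G → (X ⟶ X)) (τ : G → (P ⟶ P)) (hτπ : ∀ g, τ g ≫ π = π ≫ ρ g) (hτc : ∀ g, τ g ≫ c = c)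
    (hρs : ∀ g, ρ g ≫ sX = sX) (hρmul : ∀ g h, ρ g ≫ ρ h = ρ (g * h)) (hρone : ρ 1 = 𝟙 X)
    (htrans : ∀ (Ω : Type u) [Field Ω] [IsAlgClosed Ω] (x x' : Spec (CommRingCat.of Ω) ⟶ X),
      x ≫ sX = x' ≫ sX → ∃ g, x ≫ ρ g = x')
    (u : U) (V : P.Opens) [IsFinite (V.ι ≫ π ≫ sX)] (v : P) (hvV : v ∈ V) (hvu : (π ≫ sX) v = u)
    (huniq : ∀ z : P, z ∈ V → (π ≫ sX) z = u → z = v)
    (hpi : letI := ((π ≫ sX).residueFieldMap v).hom.toAlgebra
      IsPurelyInseparable ↑(U.residueField ((π ≫ sX) v)) ↑(P.residueField v)) :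
    ∃ U₁ : U.Opens, u ∈ U₁ ∧ ∃ s : (sX ⁻¹ᵁ U₁).toScheme ⟶ P, s ≫ π = (sX ⁻¹ᵁ U₁).ι ∧
      (∃ e, s e = v) ∧
      ∀ (g : G) {T : Scheme.{u}} (k k' : T ⟶ (sX ⁻¹ᵁ U₁).toScheme),
        k ≫ (sX ⁻¹ᵁ U₁).ι ≫ ρ g = k' ≫ (sX ⁻¹ᵁ U₁).ι → k' ≫ s ≫ c = k ≫ s ≫ c := by
  classical
  have hτmul : ∀ g h, τ g ≫ τ h = τ (g * h) := fun g h =>
    hmono _ _ (by rw [Category.assoc, hτπ, ← Category.assoc, hτπ, Category.assoc, hρmul, hτπ])
      (by rw [Category.assoc, hτc, hτc, hτc])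
  have hτone : τ 1 = 𝟙 P := hmono _ _ (by rw [hτπ, hρone, Category.comp_id, Category.id_comp]) (by rw [hτc, Category.id_comp])
  haveI hτiso : ∀ g, IsIso (τ g) := fun g =>
    ⟨τ g⁻¹, by rw [hτmul, mul_inv_cancel, hτone], by rw [hτmul, inv_mul_cancel, hτone]⟩
  -- the translates of the piece
  let Vg : G → P.Opens := fun g => τ g ⁻¹ᵁ V
  haveI hfin : ∀ g, IsFinite ((Vg g).ι ≫ π) := fun g => by
    haveI : IsFinite (((Vg g).ι ≫ π) ≫ sX) := by
      have e : ((Vg g).ι ≫ π) ≫ sX = (τ g ∣_ V) ≫ V.ι ≫ π ≫ sX := by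
        rw [morphismRestrict_ι_assoc, ← Category.assoc (τ g) π sX, hτπ, Category.assoc, Category.assoc, hρs]
      rw [e]
      infer_instance
    exact IsFinite.of_comp _ sX
  -- uniqueness of geometric points of the piece over the chosen point
  have key : ∀ (Ω : Type u) [Field Ω] [IsAlgClosed Ω] (a b : Spec (CommRingCat.of Ω) ⟶ P) (g h : G),
      a (pt Ω) ∈ Vg g → b (pt Ω) ∈ Vg h → (π ≫ sX) (a (pt Ω)) = u → a ≫ π = b ≫ π → a = b := by
    intro Ω _ _ a b g h ha hb hu e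
    have es : ∀ g : G, τ g ≫ π ≫ sX = π ≫ sX := fun g => by
      rw [← Category.assoc, hτπ, Category.assoc, hρs]
    have hu' : (π ≫ sX) (b (pt Ω)) = u := by
      rw [← hu, ← Scheme.Hom.comp_apply, ← Scheme.Hom.comp_apply, ← Category.assoc, ← e, Category.assoc]
    have ha' : (a ≫ τ g) (pt Ω) = v := huniq _ ha (by
      rw [← hu, ← Scheme.Hom.comp_apply, ← Scheme.Hom.comp_apply, Category.assoc, es])
    have hb' : (b ≫ τ h) (pt Ω) = v := huniq _ hb (by
      rw [← hu', ← Scheme.Hom.comp_apply, ← Scheme.Hom.comp_apply, Category.assoc, es])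
    have h1 : a ≫ τ g = b ≫ τ h := eq_of_purelyInseparable (π ≫ sX) hpi _ _ ha' hb'
      (by rw [Category.assoc, es, Category.assoc, es, reassoc_of% e])
    refine hmono _ _ e ?_
    have h2 := congrArg (fun k => k ≫ c) h1
    simpa only [Category.assoc, hτc] using h2
  -- the bad loci
  let Δ := pullback.diagonal π
  let Q : G → G → Scheme.{u} := fun g h => pullback ((Vg g).ι ≫ π) ((Vg h).ι ≫ π)
  let qmap : ∀ g h, Q g h ⟶ pullback π π := fun g h =>
    pullback.lift (pullback.fst _ _ ≫ (Vg g).ι) (pullback.snd _ _ ≫ (Vg h).ι)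
      (by rw [Category.assoc, Category.assoc, pullback.condition])
  let B : G → G → Set X := fun g h =>
    (pullback.fst ((Vg g).ι ≫ π) ((Vg h).ι ≫ π) ≫ (Vg g).ι ≫ π) '' (qmap g h ⁻¹' Set.range Δ)ᶜ
  let M : Set X := ⋃ g, π '' (Vg g : Set P)
  have hM : IsOpen M := isOpen_iUnion fun g => π.isOpenMap _ (Vg g).2
  have hB : ∀ g h, IsClosed (B g h) := fun g h =>
    (pullback.fst ((Vg g).ι ≫ π) ((Vg h).ι ≫ π) ≫ (Vg g).ι ≫ π).isClosedMap _
      ((Δ.isOpenEmbedding.isOpen_range.preimage (qmap g h).continuous).isClosed_compl)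
  let O : X.Opens := ⟨M ∩ (⋃ g, ⋃ h, B g h)ᶜ,
    hM.inter (isClosed_iUnion_of_finite fun g => isClosed_iUnion_of_finite fun h => hB g h).isOpen_compl⟩
  -- the fibre is good
  have hfib : ∀ x : X, sX x = u → x ∈ O := fun x hx => by
    refine ⟨?_, ?_⟩
    · obtain ⟨Ω, _, _, xb, νb, e, hxb, hνb⟩ := exists_geomPoint_pair sX (π ≫ sX) (x := x) (v := v) (hx.trans hvu.symm)
      obtain ⟨g, hg⟩ := htrans Ω xb (νb ≫ π) (by rw [e, Category.assoc])
      have e1 : (νb ≫ τ g⁻¹) ≫ π = xb := by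
        rw [Category.assoc, hτπ, ← Category.assoc, ← hg, Category.assoc, hρmul, mul_inv_cancel, hρone, Category.comp_id]
      refine Set.mem_iUnion.2 ⟨g, (νb ≫ τ g⁻¹) (pt Ω), ?_, ?_⟩
      · show τ g ((νb ≫ τ g⁻¹) (pt Ω)) ∈ V
        rw [← Scheme.Hom.comp_apply, Category.assoc, hτmul, inv_mul_cancel, hτone, Category.comp_id, hνb]
        exact hvV
      · rw [← Scheme.Hom.comp_apply, e1, hxb]
    · simp only [Set.mem_compl_iff, Set.mem_iUnion, not_exists]
      rintro g h ⟨z, hz, rfl⟩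
      refine hz ?_
      obtain ⟨Ω, _, _, zb, hzb⟩ := exists_geomPoint z
      let a := zb ≫ pullback.fst ((Vg g).ι ≫ π) ((Vg h).ι ≫ π) ≫ (Vg g).ι
      let b := zb ≫ pullback.snd ((Vg g).ι ≫ π) ((Vg h).ι ≫ π) ≫ (Vg h).ι
      have hab : a = b := key Ω a b g h (Subtype.prop _) (Subtype.prop _) (by
        rw [← hx, ← Scheme.Hom.comp_apply, ← Scheme.Hom.comp_apply]
        simp only [a, Category.assoc]
        rw [← hzb, Scheme.Hom.comp_apply zb, ← Scheme.Hom.comp_apply])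
        (by simp only [a, b, Category.assoc, pullback.condition])
      refine ⟨a (pt Ω), ?_⟩
      have e2 : a ≫ Δ = zb ≫ qmap g h := by
        apply pullback.hom_ext
        · simp [a, Δ, qmap]
        · simp only [Δ, qmap, Category.assoc, pullback.diagonal_snd, Category.comp_id, pullback.lift_snd]
          exact hab
      rw [← Scheme.Hom.comp_apply, e2, Scheme.Hom.comp_apply, hzb]
  -- the union of the translates over the good locus
  let V' : P.Opens := ⨆ g, Vg g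
  have hV' : ∀ z : P, z ∈ V' ↔ ∃ g, z ∈ Vg g := fun z => TopologicalSpace.Opens.mem_iSup
  have hinj : ∀ {T : Scheme.{u}} (a b : T ⟶ P), (∀ t, a t ∈ V') → (∀ t, b t ∈ V') → (∀ t, π (a t) ∈ O) →
      a ≫ π = b ≫ π → a = b := by
    intro T a b ha hb hO e
    let ab : T ⟶ pullback π π := pullback.lift a b e
    have hr : Set.range ab ⊆ Set.range Δ := by
      rintro _ ⟨t, rfl⟩
      obtain ⟨g, hg⟩ := (hV' _).1 (ha t)
      obtain ⟨h, hh⟩ := (hV' _).1 (hb t)
      let T' : T.Opens := (a ⁻¹ᵁ Vg g) ⊓ (b ⁻¹ᵁ Vg h)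
      let t' : T'.toScheme := ⟨t, hg, hh⟩
      have ra : Set.range (T'.ι ≫ a) ⊆ Set.range (Vg g).ι := by
        rintro _ ⟨⟨z, hz⟩, rfl⟩
        exact ⟨⟨a z, hz.1⟩, rfl⟩
      have rb : Set.range (T'.ι ≫ b) ⊆ Set.range (Vg h).ι := by
        rintro _ ⟨⟨z, hz⟩, rfl⟩
        exact ⟨⟨b z, hz.2⟩, rfl⟩
      let l : T'.toScheme ⟶ Q g h := pullback.lift (IsOpenImmersion.lift (Vg g).ι _ ra)
        (IsOpenImmersion.lift (Vg h).ι _ rb)
        (by rw [IsOpenImmersion.lift_fac_assoc, IsOpenImmersion.lift_fac_assoc, Category.assoc, Category.assoc, e])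
      have el : l ≫ qmap g h = T'.ι ≫ ab := by
        apply pullback.hom_ext <;> simp [l, qmap, ab]
      by_contra hc
      refine (hO t).2 (Set.mem_iUnion.2 ⟨g, Set.mem_iUnion.2 ⟨h, l t', ?_, ?_⟩⟩)
      · show ¬ qmap g h (l t') ∈ Set.range Δ
        rw [← Scheme.Hom.comp_apply, el]
        exact hc
      · rw [← Scheme.Hom.comp_apply]
        simp only [l, pullback.lift_fst_assoc, IsOpenImmersion.lift_fac_assoc, Category.assoc]
        rfl
    have e3 := IsOpenImmersion.lift_fac Δ ab hr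
    have e4 := congrArg (fun k => k ≫ pullback.fst π π) e3
    have e5 := congrArg (fun k => k ≫ pullback.snd π π) e3
    simp only [Δ, Category.assoc, pullback.diagonal_fst, pullback.diagonal_snd, Category.comp_id, ab,
      pullback.lift_fst, pullback.lift_snd] at e4 e5
    exact e4.symm.trans e5
  let PO : P.Opens := V' ⊓ π ⁻¹ᵁ O
  have hsub : Set.range (PO.ι ≫ π) ⊆ Set.range O.ι := by
    rintro _ ⟨⟨z, hz⟩, rfl⟩
    exact ⟨⟨π z, hz.2⟩, rfl⟩
  let r := IsOpenImmersion.lift O.ι (PO.ι ≫ π) hsub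
  have hr : r ≫ O.ι = PO.ι ≫ π := IsOpenImmersion.lift_fac _ _ _
  haveI : Etale r := by
    haveI : Etale (r ≫ O.ι) := hr ▸ inferInstance
    exact Etale.of_comp r O.ι
  haveI : Mono r := ⟨fun {T} a b e => by
    refine (cancel_mono PO.ι).1 (hinj _ _ (fun t => (a t).2.1) (fun t => (b t).2.1) (fun t => (a t).2.2) ?_)
    rw [Category.assoc, Category.assoc, ← hr, reassoc_of% e]⟩
  haveI : IsOpenImmersion r := IsOpenImmersion.of_flat_of_mono _
  haveI : Surjective r := ⟨fun ⟨x, hxO⟩ => by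
    obtain ⟨g, z, hz, rfl⟩ := Set.mem_iUnion.1 hxO.1
    refine ⟨⟨z, (hV' z).2 ⟨g, hz⟩, hxO⟩, Subtype.ext ?_⟩
    exact (Scheme.Hom.comp_apply r O.ι _).symm.trans (congrArg (fun k : PO.toScheme ⟶ X => k (⟨z, (hV' z).2 ⟨g, hz⟩, hxO⟩ : PO.toScheme)) hr)⟩
  haveI : IsIso r := (isIso_iff_isOpenImmersion_and_epi_base _).2 ⟨inferInstance, (TopCat.epi_iff_surjective _).2 r.surjective⟩
  -- shrink the base
  let U₁ : U.Opens := ⟨(sX '' (O : Set X)ᶜ)ᶜ, (sX.isClosedMap _ O.2.isClosed_compl).isOpen_compl⟩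
  have hu₁ : u ∈ U₁ := by
    rintro ⟨x, hx, e⟩
    exact hx (hfib x e)
  have hle : sX ⁻¹ᵁ U₁ ≤ O := fun x hx => by
    by_contra hc
    exact hx ⟨x, hc, rfl⟩
  let s : (sX ⁻¹ᵁ U₁).toScheme ⟶ P := X.homOfLE hle ≫ inv r ≫ PO.ι
  have hs : s ≫ π = (sX ⁻¹ᵁ U₁).ι := by
    simp only [s, Category.assoc, ← hr, IsIso.inv_hom_id_assoc, Scheme.homOfLE_ι]
  have hsV : ∀ x, s x ∈ V' := fun x => ((X.homOfLE hle ≫ inv r) x).2.1
  have hse : ∃ e, s e = v := by
    have hvX : π v ∈ sX ⁻¹ᵁ U₁ := by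
      show sX (π v) ∈ U₁
      rw [← Scheme.Hom.comp_apply, hvu]
      exact hu₁
    have hv1 : v ∈ Vg 1 := by
      show τ 1 v ∈ V
      rw [hτone]
      exact hvV
    let e : (sX ⁻¹ᵁ U₁).toScheme := ⟨π v, hvX⟩
    let v₀ : PO.toScheme := ⟨v, (hV' v).2 ⟨1, hv1⟩, hle hvX⟩
    have h : r v₀ = X.homOfLE hle e := Subtype.ext (by
      exact (Scheme.Hom.comp_apply r O.ι v₀).symm.trans ((congrArg (fun m : PO.toScheme ⟶ X => m v₀) hr).trans
        (congrArg (fun m : (sX ⁻¹ᵁ U₁).toScheme ⟶ X => m e) (X.homOfLE_ι hle)).symm))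
    refine ⟨e, ?_⟩
    simp only [s, Scheme.Hom.comp_apply]
    rw [← h, ← Scheme.Hom.comp_apply r (inv r), IsIso.hom_inv_id]
    rfl
  refine ⟨U₁, hu₁, s, hs, hse, fun g {T} k k' e => ?_⟩
  have h1 : k' ≫ s = k ≫ s ≫ τ g := by
    refine hinj _ _ (fun t => hsV (k' t)) (fun t => ?_) (fun t => ?_) ?_
    · obtain ⟨g₀, hg₀⟩ := (hV' _).1 (hsV (k t))
      refine (hV' _).2 ⟨g⁻¹ * g₀, ?_⟩
      show τ (g⁻¹ * g₀) (τ g (s (k t))) ∈ V
      rw [← Scheme.Hom.comp_apply, hτmul, mul_inv_cancel_left]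
      exact hg₀
    · rw [← Scheme.Hom.comp_apply, Category.assoc, hs]
      exact hle (k' t).2
    · rw [Category.assoc, hs, Category.assoc, Category.assoc, hτπ, reassoc_of% hs, e]
  have h2 := congrArg (fun m => m ≫ c) h1
  simpa only [Category.assoc, hτc] using h2

end Groth.Agent.ConstQuot
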