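import Groth.Agent.QuotLib.Basic
import Mathlib.AlgebraicGeometry.Sites.MorphismProperty

/-!
# Quotient stacks of group schemes are fibred in groupoids
-/

set_option backward.isDefEq.respectTransparency false
set_option backward.isDefEq.respectTransparency.types false

universe u

open CategoryTheory CategoryTheory.Functor CategoryTheory.Limits MonoidalCategory CartesianMonoidalCategory MonObj GrpObj
  AlgebraicGeometry

noncomputable section

namespace Groth.Agent.ConstQuot.QuotGrpd

open AlgSt

variable {S : Scheme.{u}} {K : Precoverage Scheme.{u}} [Precoverage.IsStableUnderBaseChange.{u} K] [K.HasPullbacks]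
  {G : Over S} [GrpObj G] {X : Over S} {aX : AlgGrp.Action G X}

section Lift

variable (A : AlgSt.QuotObj K G aX) {V : Over S} (f : V ⟶ A.base)

/-- The base change of the action on a torsor. -/
def liftAct : AlgGrp.Action G (pullback A.π f) where
  act := pullback.lift ((G ◁ pullback.fst _ _) ≫ A.act.act) (snd G _ ≫ pullback.snd _ _)
    (by rw [Category.assoc, A.cart.w, whiskerLeft_snd_assoc, pullback.condition, Category.assoc])
  one_act := by
    apply pullback.hom_ext
    · rw [Category.assoc, pullback.lift_fst, ← whisker_exchange_assoc, A.act.one_act, leftUnitor_naturality]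
    · rw [Category.assoc, pullback.lift_snd, whiskerRight_snd_assoc, leftUnitor_hom]
  mul_act := by
    apply pullback.hom_ext
    · rw [Category.assoc, pullback.lift_fst, ← whisker_exchange_assoc, A.act.mul_act]
      simp only [Category.assoc, pullback.lift_fst]
      rw [← MonoidalCategory.whiskerLeft_comp_assoc, pullback.lift_fst, MonoidalCategory.whiskerLeft_comp_assoc,
        associator_naturality_right_assoc]
    · simp only [Category.assoc, pullback.lift_snd, whiskerRight_snd_assoc, whiskerLeft_snd_assoc]
      rw [← Category.assoc, ← Category.assoc]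
      refine congrArg (· ≫ pullback.snd _ _) ?_
      simp

theorem liftLoc : NonAbH1.IsLocallyTrivialFor K (Over.mk (pullback.snd A.π f).left : Over V.left) := by
  obtain ⟨R, hR, hs⟩ := A.loc
  haveI : R.HasPullbacks f.left := Precoverage.hasPullbacks_of_mem f.left hR
  refine ⟨Presieve.pullbackArrows f.left R, Precoverage.pullbackArrows_mem f.left hR, ?_⟩
  rintro _ _ ⟨Z, g, hg⟩
  obtain ⟨s, hs'⟩ := hs g hg
  have sq : IsPullback (pullback.fst A.π f).left (pullback.snd A.π f).left A.π.left f.left :=
    (IsPullback.of_hasPullback A.π f).map (Over.forget S)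
  exact ⟨sq.lift (pullback.fst g f.left ≫ s) (pullback.snd g f.left) (by
    rw [Category.assoc, show s ≫ A.π.left = g from hs', pullback.condition]), sq.lift_snd _ _ _⟩

/-- The chosen lift of a morphism of bases. -/
def liftObj : AlgSt.QuotObj K G aX where
  base := V
  P := pullback A.π f
  act := liftAct A f
  π := pullback.snd _ _
  cart := IsPullback.of_right (h₁₂ := pullback.fst _ _) (v₁₃ := A.π) (h₂₂ := f) (by
      have := (AlgSt.isPullback_whiskerLeft (G := G) (pullback.fst A.π f)).paste_horiz A.cart
      rw [pullback.condition] at this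
      simpa [liftAct] using this)
    (by simp [liftAct]) (IsPullback.of_hasPullback _ _)
  loc := liftLoc A f
  φ := pullback.fst _ _ ≫ A.φ
  eqv := by
    rw [liftAct, pullback.lift_fst_assoc, Category.assoc, A.eqv, MonoidalCategory.whiskerLeft_comp, Category.assoc]

/-- The chosen lift. -/
def liftHom : liftObj A f ⟶ A :=
  { base := f
    top := pullback.fst _ _
    eqv := pullback.lift_fst _ _ _
    cart := IsPullback.of_hasPullback _ _
    wφ := rfl }

end Lift

/-- Quotient stacks with scheme torsors are fibred in groupoids. -/
theorem isFibGrpd : FibCat.IsFibGrpd (AlgSt.QuotSt K G aX).p where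
  exists_lift {A} {V} f := ⟨liftObj A f, liftHom A f, IsHomLift.map (AlgSt.QuotSt K G aX).p (liftHom A f)⟩
  isStronglyCartesian {A' A} φ :=
    { universal_property' := fun {A''} g φ' hφ' => by
        change AlgSt.QuotObj K G aX at A''
        have hg : g ≫ φ.base = φ'.base :=
          IsHomLift.eq_of_isHomLift (AlgSt.QuotSt K G aX).p (g ≫ (AlgSt.QuotSt K G aX).p.map φ) φ'
        refine ⟨Groth.Agent.QuotLib.homLift φ φ' g hg,
          ⟨IsHomLift.map (AlgSt.QuotSt K G aX).p (Groth.Agent.QuotLib.homLift φ φ' g hg),
            Groth.Agent.QuotLib.homLift_comp φ φ' g hg⟩, ?_⟩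
        rintro χ ⟨hχ, hc⟩
        refine Groth.Agent.QuotLib.hom_ext_of_comp φ ?_ (hc.trans (Groth.Agent.QuotLib.homLift_comp φ φ' g hg).symm)
        exact (IsHomLift.eq_of_isHomLift (AlgSt.QuotSt K G aX).p g χ).symm }

end Groth.Agent.ConstQuot.QuotGrpd

end
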