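import Groth.Agent.ConstQuot.QuotGrpd
import Groth.Agent.ConstQuot.BaseChange
import Groth.Agent.AlgStLib.Charts
import Groth.Agent.QuotLib.AtlasProps
import Mathlib.FieldTheory.IsAlgClosed.AlgebraicClosure

/-!
# Moduli maps of quotient stacks by finite surjections are universal homeomorphisms
-/

set_option backward.isDefEq.respectTransparency false
set_option backward.isDefEq.respectTransparency.types false

universe u

open CategoryTheory CategoryTheory.Functor CategoryTheory.Limits AlgebraicGeometry AlgSp Opposite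

noncomputable section

namespace Groth.Agent.ConstQuot

open Groth.Agent.FibBase Groth.Agent.AlgSpLib Groth.Agent.AlgStLib Groth.Agent.QuotLib

variable {S : Scheme.{u}}

/-- A morphism of the category of a scheme from a morphism of the bases. -/
def ofSchHom {U : Over S} (x y : (AlgSt.ofSch U).obj) (h : x.base ⟶ y.base) (e : h ≫ y.sec.down = x.sec.down) :
    x ⟶ y :=
  ⟨h, congrArg ULift.up e⟩

/-- Objects over a scheme whose images are related by a vertical morphism have the same section. -/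
theorem fibSec_eq_of_hom {𝒳 : BasedCategory (Over S)} {M : Sp S} (π : 𝒳 ⥤ᵇ AlgSt.ofSp M) {T : Over S}
    (A B : 𝒳.p.Fiber T) (k : π.obj A.1 ⟶ π.obj B.1)
    (hk : (AlgSt.ofSp M).p.IsHomLift (𝟙 T) k) : AlgSt.fibSec π A = AlgSt.fibSec π B := by
  have e : k.hom = eqToHom (((π.w_obj A.1).trans A.2).trans ((π.w_obj B.1).trans B.2).symm) :=
    (IsHomLift.fac' (AlgSt.ofSp M).p (𝟙 T) k).trans (by simp)
  rw [AlgSt.fibSec, AlgSt.fibSec, ← k.map_sec, e]
  exact (res_res M.obj _ _ _).trans (res_congr M.obj (eqToHom_trans _ _) _)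

/-- The projection of a base change of a surjection on geometric points is surjective on points. -/
theorem isSurjective_of_geomPtBij {𝒳 : AlgSt.Cat S} {I : Over S} (π : 𝒳 ⥤ᵇ AlgSt.ofSch I)
    (hbij : AlgSt.GeomPtBij π) : AlgSt.IsSurjective π := by
  intro z
  obtain ⟨p, rfl⟩ := AlgSt.Points.mk_surjective z
  let Ω := AlgebraicClosure p.K
  let t : Spec (CommRingCat.of Ω) ⟶ S := Spec.map (CommRingCat.ofHom (algebraMap p.K Ω)) ≫ p.str
  let m : Over.mk t ⟶ Over.mk p.str := Over.homMk (Spec.map (CommRingCat.ofHom (algebraMap p.K Ω))) rfl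
  obtain ⟨A, hA⟩ := (hbij Ω t).1 ⟨m ≫ eqToHom p.lies.symm ≫ p.obj.sec.down⟩
  refine ⟨AlgSt.Points.mk { K := Ω, str := t, obj := A.1, lies := A.2 }, ?_⟩
  refine pts_eq_of_hom (q := p) (ofSchHom (π.obj A.1) p.obj
    (eqToHom ((π.w_obj A.1).trans A.2) ≫ m ≫ eqToHom p.lies.symm) ?_)
  have h : eqToHom ((π.w_obj A.1).trans A.2).symm ≫ (π.obj A.1).sec.down =
      m ≫ eqToHom p.lies.symm ≫ p.obj.sec.down := congrArg ULift.down hA
  rw [Category.assoc, Category.assoc, ← h, ← Category.assoc, eqToHom_trans, eqToHom_refl, Category.id_comp]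

/-- Bijectivity on geometric points makes every base change injective on points. -/
theorem injective_fpFst_of_geomPtBij {𝒳 𝒵 : AlgSt.Cat S} (h𝒳 : FibCat.IsFibGrpd 𝒳.p) (h𝒵 : FibCat.IsFibGrpd 𝒵.p)
    {I : Over S} (π : 𝒳 ⥤ᵇ AlgSt.ofSch I) (hbij : AlgSt.GeomPtBij π) (g : 𝒵 ⥤ᵇ AlgSt.ofSch I) :
    Function.Injective (AlgSt.Points.map (FibCat.fpFst g π)) := by
  haveI : (AlgSt.ofSch I).p.Faithful := faithful_forget ((yon S).obj I).obj
  have hfp : FibCat.IsFibGrpd (FibCat.fp g π).p := fp_isFibGrpd h𝒵 h𝒳 (Stk.isFibGrpd_ofPsh _)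
  intro w w' e
  obtain ⟨p, rfl⟩ := AlgSt.Points.mk_surjective w
  obtain ⟨p', rfl⟩ := AlgSt.Points.mk_surjective w'
  obtain ⟨r, a, b, -⟩ := (pts_mk_eq_iff h𝒵).1 e
  let Ω := AlgebraicClosure r.K
  let t : Spec (CommRingCat.of Ω) ⟶ S := Spec.map (CommRingCat.ofHom (algebraMap r.K Ω)) ≫ r.str
  let m : Over.mk t ⟶ Over.mk r.str := Over.homMk (Spec.map (CommRingCat.ofHom (algebraMap r.K Ω))) rfl
  obtain ⟨r₁, φ, hr₁, -⟩ := exists_pullback_fpt h𝒵 r m
  let r' : AlgSt.FPt 𝒵 := { K := Ω, str := t, obj := r₁.obj, lies := hr₁ }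
  obtain ⟨o, ho, χ, j, hj⟩ := exists_lift_fpt hfp h𝒵 (FibCat.fpFst g π) p r' (φ ≫ a)
  obtain ⟨o', ho', χ', j', hj'⟩ := exists_lift_fpt hfp h𝒵 (FibCat.fpFst g π) p' r' (φ ≫ b)
  let i : o.obj.fst ≅ o'.obj.fst := j.symm ≪≫ j'
  haveI hj₁ : 𝒵.p.IsHomLift (𝟙 (Over.mk t)) j.inv := IsHomLift.lift_id_inv 𝒵.p (Over.mk t) j
  haveI hj₂ : 𝒵.p.IsHomLift (𝟙 (Over.mk t)) j'.hom := hj'
  haveI hi : 𝒵.p.IsHomLift (𝟙 (Over.mk t)) i.hom := inferInstanceAs (𝒵.p.IsHomLift (𝟙 _) (j.inv ≫ j'.hom))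
  let A : 𝒳.p.Fiber (Over.mk t) := ⟨o.obj.snd, (snd_proj o).trans ho⟩
  let B : 𝒳.p.Fiber (Over.mk t) := ⟨o'.obj.snd, (snd_proj o').trans ho'⟩
  have hk : (AlgSt.ofSch I).p.IsHomLift (𝟙 (Over.mk t)) (o.obj.iso.inv ≫ g.map i.hom ≫ o'.obj.iso.hom) := by
    have e₁ : (AlgSt.ofSch I).p.IsHomLift (𝟙 (Over.mk t)) o.obj.iso.hom := by
      rw [← show 𝒵.p.obj o.obj.fst = Over.mk t from ho]
      exact o.property
    have e₂ : (AlgSt.ofSch I).p.IsHomLift (𝟙 (Over.mk t)) o'.obj.iso.hom := by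
      rw [← show 𝒵.p.obj o'.obj.fst = Over.mk t from ho']
      exact o'.property
    haveI := IsHomLift.lift_id_inv (AlgSt.ofSch I).p (Over.mk t) o.obj.iso
    haveI := g.preserves_isHomLift (𝟙 (Over.mk t)) i.hom
    infer_instance
  obtain ⟨E⟩ := (hbij Ω t).2 A B (fibSec_eq_of_hom π A B _ hk)
  let bs : o.obj.snd ≅ o'.obj.snd := ofFiberIso E
  have hb : 𝒳.p.IsHomLift (𝟙 (Over.mk t)) bs.hom := E.hom.2
  let I₀ : o ≅ o' := fpIsoMk i bs (fp_w i.hom bs.hom (by
    rw [IsHomLift.fac' 𝒳.p (𝟙 (Over.mk t)) bs.hom, IsHomLift.fac' 𝒵.p (𝟙 (Over.mk t)) i.hom]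
    simp))
  exact AlgSt.Points.sound ⟨{ K := Ω, str := t, obj := o, lies := ho }, χ, I₀.hom ≫ χ', trivial⟩

variable {K : Over S} [GrpObj K] [Smooth K.hom] {X I : Over S} {a : AlgGrp.Action K X}

/-- A moduli map of a quotient stack, bijective on geometric points and induced by a universally closed surjection, is
a universal homeomorphism. -/
theorem isUnivHomeo_quotSt (q : X ⟶ I) [UniversallyClosed q.left] [Surjective q.left]
    (π : AlgSt.QuotSt Scheme.fppfPrecoverage K a ⥤ᵇ AlgSt.ofSch I)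
    (hπ : BasedFunctor.comp (AlgSt.quotMap Scheme.fppfPrecoverage K a) π = AlgSt.ofSpMap ((yon S).map q))
    (hbij : AlgSt.GeomPtBij π) : AlgSt.IsUnivHomeo Scheme.fppfPrecoverage π := by
  intro 𝒵 h𝒵 g
  have h𝒳 : FibCat.IsFibGrpd (AlgSt.QuotSt Scheme.fppfPrecoverage K a).p := QuotGrpd.isFibGrpd
  have hI : FibCat.IsFibGrpd (AlgSt.ofSch I).p := Stk.isFibGrpd_ofPsh _
  have hfp : FibCat.IsFibGrpd (FibCat.fp g π).p := fp_isFibGrpd h𝒵.isStack.1 h𝒳 hI
  let p := AlgSt.Points.map (FibCat.fpFst g π)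
  have hinj : Function.Injective p := injective_fpFst_of_geomPtBij h𝒳 h𝒵.isStack.1 π hbij g
  have hsurj : Function.Surjective p :=
    pts_surjective_fpFst h𝒳 hI h𝒵.isStack.1 g (isSurjective_of_geomPtBij π hbij)
  refine isHomeomorph_iff_continuous_isClosedMap_bijective.2
    ⟨continuous_pts_map h𝒵.isStack.1 h𝒵.atlas _, fun C hC => ?_, hinj, hsurj⟩
  refine isOpen_compl_iff.1 fun U x hx => ?_
  obtain ⟨v, hv⟩ := (yon S).map_surjective (mapOfOver (BasedFunctor.comp x g))
  let P := pullback v q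
  let pY : P ⟶ U := pullback.fst v q
  have sq : IsPullback pY.left (pullback.snd v q).left v.left q.left :=
    (IsPullback.of_hasPullback v q).map (Over.forget S)
  haveI : UniversallyClosed pY.left := MorphismProperty.of_isPullback (P := @UniversallyClosed) sq.flip ‹_›
  haveI : Surjective pY.left := MorphismProperty.of_isPullback (P := @Surjective) sq.flip ‹_›
  -- the chart of the fibre product over the chart
  let α : BasedFunctor.comp (BasedFunctor.id _) (BasedFunctor.comp x g) ≅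
      BasedFunctor.comp (mapB v) (AlgSt.ofOverCat I) :=
    isoOverOfMap (BasedFunctor.comp x g) ≪≫ eqToIso (congrArg overOfMap hv.symm)
  let β : BasedFunctor.comp (mapB q) (AlgSt.ofOverCat I) ≅
      BasedFunctor.comp (BasedFunctor.id _) (BasedFunctor.comp (quotOver Scheme.fppfPrecoverage K a) π) :=
    eqToIso (by
      show _ = BasedFunctor.comp (AlgSt.ofOverCat X) (BasedFunctor.comp (AlgSt.quotMap _ K a) π)
      rw [hπ]
      rfl)
  haveI : (AlgSt.ofOverCat I).toFunctor.Full := full_of_isEquivOver (isEquivOver_ofOverCat I)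
  haveI : (AlgSt.ofOverCat I).toFunctor.Faithful := faithful_of_isEquivOver (isEquivOver_ofOverCat I)
  let E := BasedFunctor.comp (sliceCone pY (pullback.snd v q) v q pullback.condition) (fpMap α β)
  have hE : FibCat.IsEquivOver E :=
    isEquivOver_comp (sliceCone_isEquivOver (IsPullback.of_hasPullback v q))
      (fpMap_isEquivOver α β isEquivOver_id isEquivOver_id)
  obtain ⟨P₁, hP₁, -, ⟨j₁⟩⟩ := isEquivOver_inv
    (pasteHor_isEquivOver (BasedFunctor.comp x g) (quotOver Scheme.fppfPrecoverage K a) π)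
  obtain ⟨P₂, hP₂, -, ⟨j₂⟩⟩ := isEquivOver_inv (pasteVert_isEquivOver x g π)
  let c := BasedFunctor.comp
    (BasedFunctor.comp (BasedFunctor.comp E P₁)
      (FibCat.fpFst (FibCat.fpSnd (BasedFunctor.comp x g) π) (quotOver Scheme.fppfPrecoverage K a)))
    (BasedFunctor.comp P₂ (FibCat.fpSnd x (FibCat.fpFst g π)))
  have hc : AlgSt.RepByAlgSpWith (LocP @Smooth) c :=
    repByAlgSpWith_locP_comp (isFibGrpd_overCat P) (fp_isFibGrpd (isFibGrpd_overCat U) h𝒳 hI)
      (repByAlgSpWith_precomp (isEquivOver_comp hE hP₁) (repByAlgSpWith_fpFst _ quot_smooth_surjective.1))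
      (repByAlgSpWith_precomp hP₂ (repByAlgSpWith_fpSnd _ hx))
  have key : ∀ t, p (AlgSt.Points.ofChart c t) = AlgSt.Points.ofChart x (pY.left t) := fun t => by
    let z := AlgSt.Points.map E (ptAt P t)
    let z₁ := AlgSt.Points.map
      (FibCat.fpFst (FibCat.fpSnd (BasedFunctor.comp x g) π) (quotOver Scheme.fppfPrecoverage K a))
      (AlgSt.Points.map P₁ z)
    have e₁ : AlgSt.Points.map (FibCat.fpFst (BasedFunctor.comp x g) π) z₁ =
        AlgSt.Points.map
          (FibCat.fpFst (BasedFunctor.comp x g) (BasedFunctor.comp (quotOver Scheme.fppfPrecoverage K a) π)) z := by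
      conv_rhs => rw [← pts_map_id z, ← pts_map_congr j₁ z, pts_map_comp]
      simp only [z₁, ← pts_map_comp]
      rfl
    have e₂ : AlgSt.Points.map (FibCat.fpFst x (FibCat.fpFst g π)) (AlgSt.Points.map P₂ z₁) =
        AlgSt.Points.map (FibCat.fpFst (BasedFunctor.comp x g) π) z₁ := by
      conv_rhs => rw [← pts_map_id z₁, ← pts_map_congr j₂ z₁, pts_map_comp]
      simp only [← pts_map_comp]
      rfl
    calc p (AlgSt.Points.ofChart c t)
        = AlgSt.Points.map (BasedFunctor.comp (FibCat.fpSnd x (FibCat.fpFst g π)) (FibCat.fpFst g π))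
            (AlgSt.Points.map P₂ z₁) := by
          rw [ofChart_eq_map]
          simp only [z₁, z, p, c, pts_map_comp]
      _ = AlgSt.Points.map x (AlgSt.Points.map (FibCat.fpFst x (FibCat.fpFst g π)) (AlgSt.Points.map P₂ z₁)) := by
          rw [← pts_map_congr (FibCat.fpIso x (FibCat.fpFst g π)), pts_map_comp]
      _ = AlgSt.Points.map x (AlgSt.Points.map (AlgSt.overMap pY) (ptAt P t)) := by
          rw [e₂, e₁]
          simp only [z, ← pts_map_comp]
          rfl
      _ = _ := by rw [map_overMap_ptAt, ← ofChart_eq_map]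
  have himg : AlgSt.Points.ofChart x ⁻¹' (p '' C) = pY.left '' (AlgSt.Points.ofChart c ⁻¹' C) := by
    refine Set.Subset.antisymm (fun s hs => ?_) ?_
    · obtain ⟨w, hw, e⟩ := hs
      obtain ⟨t, rfl⟩ := pY.left.surjective s
      refine ⟨t, ?_, rfl⟩
      show AlgSt.Points.ofChart c t ∈ C
      rw [(hinj ((key t).trans e.symm) : AlgSt.Points.ofChart c t = w)]
      exact hw
    · rintro _ ⟨t, ht, rfl⟩
      exact ⟨_, ht, key t⟩
  rw [Set.preimage_compl, isOpen_compl_iff]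
  show IsClosed (AlgSt.Points.ofChart x ⁻¹' (p '' C))
  rw [himg]
  refine pY.left.isClosedMap _ ⟨?_⟩
  rw [← Set.preimage_compl]
  exact hC.isOpen_compl P c hc

end Groth.Agent.ConstQuot

end
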